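import Groth.Agent.L07.Spread.Cover
import Mathlib.AlgebraicGeometry.IdealSheaf.Subscheme
import Mathlib.AlgebraicGeometry.Morphisms.ClosedImmersion

/-!
Open and closed pieces of fibres near the generic point.
-/

universe u

open CategoryTheory CategoryTheory.Limits AlgebraicGeometry

namespace Groth.L07.Spread

set_option autoImplicit false
set_option linter.style.haveILetI false
set_option maxSynthPendingDepth 3
set_option backward.isDefEq.respectTransparency.types false
set_option backward.isDefEq.respectTransparency false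

/-- An open subset meeting the generic fibre of a morphism locally of finite type meets the fibres over a
nonempty open. -/
theorem exists_opens_subset_image {X Y : Scheme.{u}} (f : X ⟶ Y) [IrreducibleSpace Y] [LocallyOfFiniteType f]
    (U : X.Opens) (x : X) (hx : x ∈ U) (hfx : f x = genericPoint Y) :
    ∃ V : Y.Opens, genericPoint Y ∈ V ∧ ∀ y ∈ V, ∃ w ∈ U, f w = y := by
  obtain ⟨A, hA, i, hi, hV⟩ := exists_integral_base Y
  let p₀ : Spec A := (⟨⊥, Ideal.isPrime_bot⟩ : PrimeSpectrum A)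
  obtain ⟨z, hz₁, hz₂⟩ := Scheme.Pullback.exists_preimage_pullback (f := f) (g := i) x p₀ (by rw [hi p₀ rfl, hfx])
  obtain ⟨_, ⟨W, hW, rfl⟩, hzW, hWle⟩ :=
    (pullback f i).isBasis_affineOpens.exists_subset_of_mem_open (show z ∈ pullback.fst f i ⁻¹ᵁ U from
      show pullback.fst f i z ∈ U from hz₁.symm ▸ hx) (pullback.fst f i ⁻¹ᵁ U).isOpen
  obtain ⟨φ, hφ⟩ := Spec.map_surjective (hW.fromSpec ≫ pullback.snd f i)
  letI : Algebra A Γ(pullback f i, W) := φ.hom.toAlgebra
  have hj : hW.fromSpec ≫ pullback.snd f i = specAlg A Γ(pullback f i, W) := hφ.symm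
  haveI : Algebra.FiniteType A Γ(pullback f i, W) := by
    have : LocallyOfFiniteType (Spec.map φ) := by rw [hφ]; infer_instance
    exact HasRingHomProperty.Spec_iff.mp this
  obtain ⟨q, hq⟩ : z ∈ Set.range hW.fromSpec := by rw [hW.range_fromSpec]; exact hzW
  obtain ⟨a, ha, hr⟩ := Groth.Agent.S4585.exists_basicOpen_subset_range (A := A) (B := Γ(pullback f i, W))
    p₀ ⟨q, by
      rw [show PrimeSpectrum.comap (algebraMap A Γ(pullback f i, W)) q = specAlg A Γ(pullback f i, W) q from rfl,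
        ← hj, Scheme.Hom.comp_apply]
      show pullback.snd f i (hW.fromSpec q) = p₀
      rw [hq, hz₂]⟩
  obtain ⟨V, hξ, hVK⟩ := hV a fun h => ha (by rw [h]; exact Ideal.zero_mem _)
  refine ⟨V, hξ, fun y hy => ?_⟩
  let c : Spec (Y.residueField y) := (⟨⊥, Ideal.isPrime_bot⟩ : PrimeSpectrum (Y.residueField y))
  obtain ⟨ψ, hψ, hψa⟩ := hVK (Y.residueField y) (Y.fromSpecResidueField y) fun c => by
    exact (Scheme.fromSpecResidueField_apply y c).symm ▸ hy
  obtain ⟨Q, hQ⟩ := hr (Spec.map ψ c) bot_le fun hm => hψa hm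
  refine ⟨pullback.fst f i (hW.fromSpec Q), hWle (by rw [← hW.range_fromSpec]; exact ⟨Q, rfl⟩), ?_⟩
  rw [← Scheme.Hom.comp_apply, pullback.condition, Scheme.Hom.comp_apply]
  have : pullback.snd f i (hW.fromSpec Q) = Spec.map ψ c := by
    rw [← Scheme.Hom.comp_apply, hj]; exact hQ
  rw [this, ← Scheme.Hom.comp_apply, hψ]
  exact Scheme.fromSpecResidueField_apply ..

/-- A closed subset missing the generic fibre misses the fibres over a nonempty open. -/
theorem exists_opens_disjoint_of_generic {X Y : Scheme.{u}} (f : X ⟶ Y) [IrreducibleSpace Y]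
    [LocallyOfFiniteType f] [QuasiCompact f] (F : Set X) (hF : IsClosed F) (hgen : ∀ x ∈ F, f x ≠ genericPoint Y) :
    ∃ V : Y.Opens, genericPoint Y ∈ V ∧ ∀ x ∈ F, f x ∉ V := by
  let I := Scheme.IdealSheafData.vanishingIdeal (X := X) ⟨F, hF⟩
  have hr : Set.range I.subschemeι = F := by
    rw [Scheme.IdealSheafData.range_subschemeι, Scheme.IdealSheafData.coe_support_vanishingIdeal]; rfl
  obtain ⟨V, hξ, hV⟩ := exists_preimage_subset_of_generic (I.subschemeι ≫ f) ∅ isClosed_empty fun z hz =>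
    ((hgen (I.subschemeι z) (by rw [← hr]; exact ⟨z, rfl⟩)) (by rw [← Scheme.Hom.comp_apply]; exact hz)).elim
  refine ⟨V, hξ, fun x hx hxV => ?_⟩
  obtain ⟨z, rfl⟩ : x ∈ Set.range I.subschemeι := hr ▸ hx
  exact hV z (by rw [Scheme.Hom.comp_apply]; exact hxV)

/-- Finitely many closed subsets covering the generic fibre, each with a point in none of the others: the same
holds over a nonempty open. -/
theorem exists_opens_irredundant {X Y : Scheme.{u}} (f : X ⟶ Y) [IrreducibleSpace Y]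
    [LocallyOfFiniteType f] [QuasiCompact f] {ι : Type*} [Finite ι] (C : ι → Set X) (hC : ∀ j, IsClosed (C j))
    (hcov : ∀ x, f x = genericPoint Y → ∃ j, x ∈ C j)
    (hown : ∀ j, ∃ x, f x = genericPoint Y ∧ ∀ k ≠ j, x ∉ C k) :
    ∃ V : Y.Opens, genericPoint Y ∈ V ∧ (∀ x, f x ∈ V → ∃ j, x ∈ C j) ∧
      ∀ y ∈ V, ∀ j, ∃ w, f w = y ∧ w ∈ C j ∧ ∀ k ≠ j, w ∉ C k := by
  classical
  cases nonempty_fintype ι
  obtain ⟨V₀, hξ₀, hV₀⟩ := exists_preimage_subset_of_generic f (⋃ j, C j) (isClosed_iUnion_of_finite hC)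
    fun x hx => Set.mem_iUnion.mpr (hcov x hx)
  choose x hxf hx using hown
  choose V hξ hV using fun j => exists_opens_subset_image f
    ⟨(⋃ k ∈ {k | k ≠ j}, C k)ᶜ, (Set.Finite.isClosed_biUnion (Set.toFinite _) fun k _ => hC k).isOpen_compl⟩ (x j)
    (by
      show x j ∉ ⋃ k ∈ {k | k ≠ j}, C k
      simp only [Set.mem_iUnion, Set.mem_setOf_eq, not_exists]
      exact fun k hk => hx j k hk) (hxf j)
  refine ⟨⟨V₀ ∩ ⋂ j, (V j : Set Y), V₀.isOpen.inter (isOpen_iInter_of_finite fun j => (V j).isOpen)⟩,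
    ⟨hξ₀, Set.mem_iInter.mpr hξ⟩, fun x hx => Set.mem_iUnion.mp (hV₀ x hx.1), fun y hy j => ?_⟩
  obtain ⟨w, hw, hwy⟩ := hV j y (Set.mem_iInter.mp hy.2 j)
  have hw' : ∀ k ≠ j, w ∉ C k := fun k hk hk' => hw (Set.mem_biUnion hk hk')
  obtain ⟨k, hk⟩ := Set.mem_iUnion.mp (hV₀ w (hwy ▸ hy.1))
  refine ⟨w, hwy, ?_, hw'⟩
  by_cases hkj : k = j
  · exact hkj ▸ hk
  · exact absurd hk (hw' k hkj)

end Groth.L07.Spread
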