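import Groth.Agent.L07.Spread.Stage
import Groth.Agent.L07.Spread.Pieces
import Mathlib.Topology.NoetherianSpace

/-!
Geometric connectedness spreads from the generic point of an integral affine base (EGA IV 9.7.7).
-/

universe u

open CategoryTheory CategoryTheory.Limits AlgebraicGeometry

namespace Groth.L07.Spread

set_option autoImplicit false
set_option linter.style.haveILetI false
set_option maxSynthPendingDepth 3
set_option backward.isDefEq.respectTransparency.types false
set_option backward.isDefEq.respectTransparency false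

/-- A finite closed cover of a connected space by nonempty sets has a connected incidence graph. -/
theorem reflTransGen_of_isClosed_cover {P : Type*} [TopologicalSpace P] [PreconnectedSpace P] {ι : Type*} [Finite ι]
    (T : ι → Set P) (hT : ∀ i, IsClosed (T i)) (hne : ∀ i, (T i).Nonempty) (hcov : ∀ z, ∃ i, z ∈ T i) (i j : ι) :
    Relation.ReflTransGen (fun a b => (T a ∩ T b).Nonempty) i j := by
  let S := {k | Relation.ReflTransGen (fun a b => (T a ∩ T b).Nonempty) i k}
  by_contra hj
  obtain ⟨z, hz⟩ := hne i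
  obtain ⟨w, hw⟩ := hne j
  obtain ⟨t, -, ht₁, ht₂⟩ := isPreconnected_closed_iff.mp isPreconnected_univ (⋃ k ∈ S, T k) (⋃ k ∈ Sᶜ, T k)
    (Set.Finite.isClosed_biUnion (Set.toFinite _) fun k _ => hT k)
    (Set.Finite.isClosed_biUnion (Set.toFinite _) fun k _ => hT k)
    (fun x _ => by
      obtain ⟨k, hk⟩ := hcov x
      by_cases h : k ∈ S
      · exact Or.inl (Set.mem_biUnion h hk)
      · exact Or.inr (Set.mem_biUnion h hk))
    ⟨z, trivial, Set.mem_biUnion (Relation.ReflTransGen.refl : i ∈ S) hz⟩
    ⟨w, trivial, Set.mem_biUnion (show j ∈ Sᶜ from hj) hw⟩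
  obtain ⟨a, ha, hta⟩ := Set.mem_iUnion₂.mp ht₁
  obtain ⟨b, hb, htb⟩ := Set.mem_iUnion₂.mp ht₂
  exact hb ((ha : Relation.ReflTransGen _ i a).tail ⟨t, hta, htb⟩)

/-- A finite closed cover by preconnected sets with connected incidence graph makes the space preconnected. -/
theorem preconnectedSpace_of_cover {P : Type*} [TopologicalSpace P] {ι : Type*}
    (T : ι → Set P) (hT : ∀ i, _root_.IsPreconnected (T i)) (hcov : ∀ z, ∃ i, z ∈ T i)
    (hgraph : ∀ i j, Relation.ReflTransGen (fun a b => (T a ∩ T b).Nonempty) i j) : PreconnectedSpace P :=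
  ⟨(Set.eq_univ_of_forall fun z => Set.mem_iUnion.mpr (hcov z) : (⋃ i, T i) = Set.univ) ▸
    IsPreconnected.iUnion_of_reflTransGen hT hgraph⟩

variable {A : Type u} [CommRing A] {X : Scheme.{u}} (h : X ⟶ Spec (CommRingCat.of A))

/-- A closed subset with a point over the generic point has points over a nonempty open. -/
theorem exists_forall_exists_mem_over [IsDomain A] [LocallyOfFiniteType h] (F : Set X) (hF : IsClosed F) (x : X)
    (hx : x ∈ F) (hx0 : (h x).asIdeal = ⊥) :
    ∃ a : A, a ≠ 0 ∧ ∀ p : Spec (CommRingCat.of A), a ∉ p.asIdeal → ∃ w ∈ F, h w = p := by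
  let I := Scheme.IdealSheafData.vanishingIdeal (X := X) ⟨F, hF⟩
  have hr : Set.range I.subschemeι = F := by
    rw [Scheme.IdealSheafData.range_subschemeι, Scheme.IdealSheafData.coe_support_vanishingIdeal]; rfl
  obtain ⟨z, hz⟩ : x ∈ Set.range I.subschemeι := hr ▸ hx
  obtain ⟨_, ⟨W, hW, rfl⟩, hzW, -⟩ := I.subscheme.isBasis_affineOpens.exists_subset_of_mem_open (Set.mem_univ z) isOpen_univ
  obtain ⟨φ, hφ⟩ := Spec.map_surjective (hW.fromSpec ≫ I.subschemeι ≫ h)
  letI : Algebra A Γ(I.subscheme, W) := φ.hom.toAlgebra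
  have hj : hW.fromSpec ≫ I.subschemeι ≫ h = specAlg A Γ(I.subscheme, W) := hφ.symm
  haveI : Algebra.FiniteType A Γ(I.subscheme, W) := by
    have : LocallyOfFiniteType (Spec.map φ) := by rw [hφ]; infer_instance
    exact HasRingHomProperty.Spec_iff.mp this
  obtain ⟨q, hq⟩ : z ∈ Set.range hW.fromSpec := by rw [hW.range_fromSpec]; exact hzW
  have hpt : ∀ Q : Spec Γ(I.subscheme, W), h (I.subschemeι (hW.fromSpec Q)) = specAlg A Γ(I.subscheme, W) Q := fun Q => by
    rw [← Scheme.Hom.comp_apply, ← Scheme.Hom.comp_apply, hj]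
    rfl
  obtain ⟨a, ha, hrg⟩ := Groth.Agent.S4585.exists_basicOpen_subset_range (A := A) (B := Γ(I.subscheme, W))
    ⟨⊥, Ideal.isPrime_bot⟩ ⟨q, PrimeSpectrum.ext (by
      rw [show PrimeSpectrum.comap (algebraMap A Γ(I.subscheme, W)) q = specAlg A Γ(I.subscheme, W) q from rfl,
        ← hpt, hq, hz, hx0])⟩
  refine ⟨a, fun h0 => ha (by rw [h0]; exact Ideal.zero_mem _), fun p hp => ?_⟩
  obtain ⟨Q, hQ⟩ := hrg p bot_le hp
  exact ⟨I.subschemeι (hW.fromSpec Q), hr ▸ ⟨_, rfl⟩, (hpt Q).trans hQ⟩

/-- Connectedness of the fibre descends along extensions of the field. -/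
theorem connectedSpace_of_extension (K L : Type u) [Field K] [Field L] [Algebra A K] [Algebra A L] [Algebra K L]
    [IsScalarTower A K L] [ConnectedSpace (pullback h (specAlg A L) : Scheme.{u})] :
    ConnectedSpace (pullback h (specAlg A K) : Scheme.{u}) := by
  have hfac : specAlg K L ≫ specAlg A K = specAlg A L := by
    rw [← Spec.map_comp, ← CommRingCat.ofHom_comp, ← IsScalarTower.algebraMap_eq]
  haveI : Surjective (specAlg K L) := ⟨fun c => ⟨(⟨⊥, Ideal.isPrime_bot⟩ : PrimeSpectrum L),
    Subsingleton.elim (α := PrimeSpectrum K) _ _⟩⟩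
  let q : pullback (pullback.snd h (specAlg A K)) (specAlg K L) ⟶ pullback h (specAlg A K) := pullback.fst _ _
  let e : pullback (pullback.snd h (specAlg A K)) (specAlg K L) ≅ pullback h (specAlg A L) :=
    pullbackLeftPullbackSndIso h (specAlg A K) (specAlg K L) ≪≫ pullback.congrHom rfl hfac
  haveI : ConnectedSpace (pullback (pullback.snd h (specAlg A K)) (specAlg K L) : Scheme.{u}) :=
    e.hom.homeomorph.connectedSpace_iff.mpr inferInstance
  exact q.surjective.connectedSpace q.continuous

/-- For a morphism of finite type to the spectrum of a domain with connected geometric generic fibre, the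
fibres over some nonempty open of the base are geometrically connected. -/
theorem exists_forall_connectedSpace [IsDomain A] [LocallyOfFiniteType h] [QuasiCompact h]
    (Ω : Type u) [Field Ω] [IsAlgClosed Ω] [Algebra A Ω] [Algebra.IsAlgebraic A Ω]
    (hΩ : Function.Injective (algebraMap A Ω)) [hconn : ConnectedSpace (pullback h (specAlg A Ω) : Scheme.{u})] :
    ∃ a : A, a ≠ 0 ∧ ∀ (K : Type u) [Field K] [Algebra A K], algebraMap A K a ≠ 0 →
      ConnectedSpace (pullback h (specAlg A K) : Scheme.{u}) := by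
  classical
  let P : Scheme.{u} := pullback h (specAlg A Ω)
  haveI : IsLocallyNoetherian P := LocallyOfFiniteType.isLocallyNoetherian (pullback.snd h (specAlg A Ω))
  haveI : CompactSpace P := QuasiCompact.compactSpace_of_compactSpace (pullback.snd h (specAlg A Ω))
  haveI : IsNoetherian P := ⟨⟩
  haveI : Finite (irreducibleComponents P) := TopologicalSpace.NoetherianSpace.finite_irreducibleComponents.to_subtype
  let T : irreducibleComponents P → Set P := fun i => i.1
  have hTc : ∀ i, IsClosed (T i) := fun i => isClosed_of_mem_irreducibleComponents _ i.2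
  have hTi : ∀ i, IsIrreducible (T i) := fun i => i.2.1
  have hTcov : ∀ z, ∃ i, z ∈ T i := fun z =>
    ⟨⟨_, irreducibleComponent_mem_irreducibleComponents z⟩, mem_irreducibleComponent⟩
  obtain ⟨A', hA', hstage⟩ := exists_stage_closed h Ω T hTc
  haveI : Algebra.FiniteType A A' := (Subalgebra.fg_iff_finiteType A').mp hA'
  haveI : Algebra.IsAlgebraic A' Ω :=
    Algebra.IsAlgebraic.extendScalars (R := A) (fun a b hab => hΩ (congrArg Subtype.val hab :))
  let X' : Scheme.{u} := pullback h (specAlg A A')
  let h' : X' ⟶ Spec (CommRingCat.of A') := pullback.snd h (specAlg A A')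
  let q : P ⟶ X' := bcTo h A'.val
  let C : irreducibleComponents P → Set X' := fun i => closure (q '' T i)
  have hqpre : ∀ i, q ⁻¹' C i = T i := fun i =>
    (hstage i).antisymm fun z hz => subset_closure ⟨z, hz, rfl⟩
  have hker : RingHom.ker (algebraMap A' Ω) = ⊥ :=
    (RingHom.injective_iff_ker_eq_bot _).mp Subtype.val_injective
  let e' : pullback h' (specAlg A' Ω) ≅ P :=
    pullbackLeftPullbackSndIso h (specAlg A A') (specAlg A' Ω) ≪≫ pullback.congrHom rfl (by
      rw [← Spec.map_comp, ← CommRingCat.ofHom_comp, ← IsScalarTower.algebraMap_eq])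
  have he' : e'.hom ≫ q = pullback.fst h' (specAlg A' Ω) := by
    apply pullback.hom_ext
    · simp [e', q, h']
    · simp [e', q, h']
      rw [pullback.condition]
      rfl
  have hfst : ∀ z, pullback.fst h' (specAlg A' Ω) z = q (e'.hom z) := fun z => by
    rw [← Scheme.Hom.comp_apply, he']
  have hqgen : ∀ z : P, (h' (q z)).asIdeal = ⊥ := fun z => by
    obtain ⟨w, rfl⟩ := e'.hom.surjective z
    rw [← hfst, asIdeal_fst, hker]
  -- the covering
  obtain ⟨a₀, ha₀, hcov⟩ := exists_forall_mem_of_generic h' (⋃ i, C i) (isClosed_iUnion_of_finite fun i => isClosed_closure)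
    fun x hx => by
      obtain ⟨z, rfl⟩ := exists_fst_eq h' Ω x (hx.trans hker.symm)
      obtain ⟨i, hi⟩ := hTcov (e'.hom z)
      exact Set.mem_iUnion.mpr ⟨i, by rw [hfst]; exact subset_closure ⟨_, hi, rfl⟩⟩
  -- each piece
  have hpiece : ∀ i, ∃ a : A', a ≠ 0 ∧ ∀ (K : Type u) [Field K] [Algebra A' K], algebraMap A' K a ≠ 0 →
      IsIrreducible (pullback.fst h' (specAlg A' K) ⁻¹' C i) := by
    intro i
    let I := Scheme.IdealSheafData.vanishingIdeal (X := X') ⟨C i, isClosed_closure⟩
    have hr : Set.range I.subschemeι = C i := by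
      rw [Scheme.IdealSheafData.range_subschemeι, Scheme.IdealSheafData.coe_support_vanishingIdeal]; rfl
    have key : ∀ (K : Type u) [Field K] [Algebra A' K],
        IrreducibleSpace (pullback (I.subschemeι ≫ h') (specAlg A' K) : Scheme.{u}) ↔
          IsIrreducible (pullback.fst h' (specAlg A' K) ⁻¹' C i) := fun K _ _ => by
      let j := pullback.snd I.subschemeι (pullback.fst h' (specAlg A' K))
      have hjr : Set.range j = pullback.fst h' (specAlg A' K) ⁻¹' C i := by
        rw [Scheme.Pullback.range_snd, hr]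
      rw [← (pullbackRightPullbackFstIso h' (specAlg A' K) I.subschemeι).hom.homeomorph.irreducibleSpace_iff, ← hjr,
        j.isEmbedding.toHomeomorph.irreducibleSpace_iff]
      exact ⟨fun _ => IsIrreducible.of_subtype, fun h => Subtype.irreducibleSpace h⟩
    haveI : IrreducibleSpace (pullback (I.subschemeι ≫ h') (specAlg A' Ω) : Scheme.{u}) := (key Ω).mpr (by
      have : pullback.fst h' (specAlg A' Ω) ⁻¹' C i = e'.inv '' T i := by
        ext z
        rw [Set.mem_preimage, hfst, ← Set.mem_preimage, hqpre]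
        exact ⟨fun hz => ⟨_, hz, by rw [← Scheme.Hom.comp_apply, e'.hom_inv_id]; rfl⟩, by
          rintro ⟨w, hw, rfl⟩
          rw [← Scheme.Hom.comp_apply, e'.inv_hom_id]
          exact hw⟩
      rw [this]
      exact (hTi i).image _ e'.inv.continuous.continuousOn)
    obtain ⟨a, ha, hK⟩ := exists_forall_irreducibleSpace (I.subschemeι ≫ h') Ω Subtype.val_injective
    exact ⟨a, ha, fun K _ _ haK => (key K).mp (hK K haK)⟩
  choose aC haC0 haC using hpiece
  -- the meets
  choose aM haM0 haM using fun p : {p : irreducibleComponents P × irreducibleComponents P // (T p.1 ∩ T p.2).Nonempty} =>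
    exists_forall_exists_mem_over h' (C p.1.1 ∩ C p.1.2) (isClosed_closure.inter isClosed_closure) (q p.2.some)
      ⟨subset_closure ⟨_, p.2.some_mem.1, rfl⟩, subset_closure ⟨_, p.2.some_mem.2, rfl⟩⟩ (hqgen _)
  cases nonempty_fintype (irreducibleComponents P)
  let astar : A' := a₀ * (∏ i, aC i) * ∏ p, aM p
  have hastar : astar ≠ 0 := mul_ne_zero (mul_ne_zero ha₀ (Finset.prod_ne_zero_iff.mpr fun i _ => haC0 i))
    (Finset.prod_ne_zero_iff.mpr fun p _ => haM0 p)
  let E := Localization.Away astar
  haveI : IsDomain E := IsLocalization.isDomain_of_le_nonZeroDivisors (M := Submonoid.powers astar) (S := E)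
    (powers_le_nonZeroDivisors_of_noZeroDivisors hastar)
  haveI : Algebra.FiniteType A' E := IsLocalization.finiteType_of_monoid_fg (Submonoid.powers astar) E
  haveI : Algebra.FiniteType A E := Algebra.FiniteType.trans (R := A) (S := A') inferInstance inferInstance
  obtain ⟨a, ha, hpt⟩ := exists_forall_nonempty_algHom (A := A) (E := E) (by
    rw [IsScalarTower.algebraMap_eq A A' E]
    exact (IsLocalization.injective E (powers_le_nonZeroDivisors_of_noZeroDivisors hastar)).comp
      (fun a b hab => hΩ (congrArg Subtype.val hab :)))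
  refine ⟨a, ha, fun K _ _ hK => ?_⟩
  suffices halg : ∀ (L : Type u) [Field L] [Algebra A L] [IsAlgClosed L], algebraMap A L a ≠ 0 →
      ConnectedSpace (pullback h (specAlg A L) : Scheme.{u}) by
    haveI := halg (AlgebraicClosure K) (by
      rw [IsScalarTower.algebraMap_apply A K (AlgebraicClosure K)]
      exact (map_ne_zero_iff _ (algebraMap K _).injective).mpr hK)
    exact connectedSpace_of_extension h K (AlgebraicClosure K)
  intro L _ _ _ hL
  obtain ⟨θ⟩ := hpt L hL
  let θ' : A' →ₐ[A] L := θ.comp (IsScalarTower.toAlgHom A A' E)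
  have hθ : θ' astar ≠ 0 := ((IsLocalization.Away.algebraMap_isUnit (S := E) astar).map θ).ne_zero
  simp only [astar, map_mul, map_prod, ne_eq, mul_eq_zero, not_or, Finset.prod_eq_zero_iff, not_exists, not_and,
    Finset.mem_univ, forall_const] at hθ
  letI : Algebra A' L := θ'.toRingHom.toAlgebra
  let eL : pullback h' (specAlg A' L) ≅ pullback h (specAlg A L) :=
    pullbackLeftPullbackSndIso h (specAlg A A') (specAlg A' L) ≪≫ pullback.congrHom rfl (by
      rw [← Spec.map_comp, ← CommRingCat.ofHom_comp]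
      exact congrArg (fun ψ => Spec.map (CommRingCat.ofHom ψ)) θ'.comp_algebraMap)
  let TL : irreducibleComponents P → Set (pullback h' (specAlg A' L) : Scheme.{u}) := fun i =>
    pullback.fst h' (specAlg A' L) ⁻¹' C i
  have hirr : ∀ i, IsIrreducible (TL i) := fun i => haC i L (hθ.1.2 i)
  have hcovL : ∀ z, ∃ i, z ∈ TL i := fun z =>
    (Set.mem_iUnion.mp (hcov (pullback.fst h' (specAlg A' L) z) fun hm => hθ.1.1
      (RingHom.mem_ker.mp (asIdeal_fst h' L z ▸ hm)))).imp fun i hi => hi
  have hmeetL : ∀ i j, (T i ∩ T j).Nonempty → (TL i ∩ TL j).Nonempty := fun i j hij => by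
    obtain ⟨w, hw, hwp⟩ := haM ⟨(i, j), hij⟩ (⟨RingHom.ker (algebraMap A' L), RingHom.ker_isPrime _⟩ : PrimeSpectrum A')
      (fun hm => hθ.2 ⟨(i, j), hij⟩ (RingHom.mem_ker.mp hm))
    obtain ⟨z, hz⟩ := exists_fst_eq h' L w (by rw [hwp])
    exact ⟨z, by show pullback.fst h' _ z ∈ C i; rw [hz]; exact hw.1,
      by show pullback.fst h' _ z ∈ C j; rw [hz]; exact hw.2⟩
  obtain ⟨z₀⟩ : Nonempty P := hconn.toNonempty
  obtain ⟨i₀, -⟩ := hTcov z₀
  haveI : Nonempty (pullback h' (specAlg A' L) : Scheme.{u}) := ⟨(hirr i₀).nonempty.some⟩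
  haveI : PreconnectedSpace (pullback h' (specAlg A' L) : Scheme.{u}) :=
    preconnectedSpace_of_cover TL (fun i => (hirr i).isConnected.isPreconnected) hcovL fun i j =>
      Relation.ReflTransGen.mono (fun a b hab => hmeetL a b hab)
        _ _ (reflTransGen_of_isClosed_cover T hTc (fun i => (hTi i).nonempty) hTcov i j)
  haveI : ConnectedSpace (pullback h' (specAlg A' L) : Scheme.{u}) := ⟨inferInstance⟩
  exact eL.hom.homeomorph.connectedSpace_iff.mp inferInstance

end Groth.L07.Spread
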