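import Groth.Agent.L07.Spread.General
import Mathlib.AlgebraicGeometry.PullbackCarrier
import Mathlib.AlgebraicGeometry.Morphisms.FiniteType
import Mathlib.AlgebraicGeometry.Morphisms.QuasiCompact
import Mathlib.RingTheory.Spectrum.Prime.Topology

/-!
Geometric irreducibility spreads from the generic point of an integral affine base (EGA IV 9.7.7), schemes.
-/

universe u

open CategoryTheory CategoryTheory.Limits AlgebraicGeometry TensorProduct

namespace Groth.L07.Spread

set_option autoImplicit false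
set_option linter.style.haveILetI false
set_option maxSynthPendingDepth 3
set_option backward.isDefEq.respectTransparency.types false
set_option backward.isDefEq.respectTransparency false

/-- A space covered by opens, each empty or irreducible, the nonempty ones meeting pairwise, is irreducible. -/
theorem irreducibleSpace_of_open_cover {P : Type*} [TopologicalSpace P] [Nonempty P] {ι : Type*} (O : ι → Set P)
    (ho : ∀ i, IsOpen (O i)) (hcov : ∀ z, ∃ i, z ∈ O i) (hirr : ∀ i, IsPreirreducible (O i))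
    (hmeet : ∀ i j, (O i).Nonempty → (O j).Nonempty → (O i ∩ O j).Nonempty) : IrreducibleSpace P := by
  rw [irreducibleSpace_def]
  refine ⟨Set.univ_nonempty, fun U V hU hV ⟨u, _, hu⟩ ⟨v, _, hv⟩ => ?_⟩
  obtain ⟨i, hi⟩ := hcov u
  obtain ⟨j, hj⟩ := hcov v
  obtain ⟨w, hwi, hwj⟩ := hmeet i j ⟨u, hi⟩ ⟨v, hj⟩
  obtain ⟨z, hzi, hzU, hzj⟩ := hirr i U (O j) hU (ho j) ⟨u, hi, hu⟩ ⟨w, hwi, hwj⟩
  obtain ⟨t, -, ⟨htU, -⟩, htV⟩ := hirr j (U ∩ O i) V (hU.inter (ho i)) hV ⟨z, hzj, hzU, hzi⟩ ⟨v, hj, hv⟩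
  exact ⟨t, trivial, htU, htV⟩

/-- Fields over a ring, as a morphism. -/
noncomputable abbrev specAlg (A K : Type u) [CommRing A] [CommRing K] [Algebra A K] :
    Spec (CommRingCat.of K) ⟶ Spec (CommRingCat.of A) :=
  Spec.map (CommRingCat.ofHom (algebraMap A K))

section Field

variable {A : Type u} [CommRing A] {X : Scheme.{u}} (h : X ⟶ Spec (CommRingCat.of A)) (K : Type u) [Field K]
  [Algebra A K]

/-- The point of the base of a field. -/
theorem specAlg_apply (c : Spec (CommRingCat.of K)) :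
    (specAlg A K c).asIdeal = RingHom.ker (algebraMap A K) := by
  show Ideal.comap (algebraMap A K) c.asIdeal = _
  rw [show c.asIdeal = ⊥ from (Ideal.eq_bot_or_top _).resolve_right c.isPrime.ne_top]
  rfl

theorem exists_fst_eq (x : X) (hx : (h x).asIdeal = RingHom.ker (algebraMap A K)) :
    ∃ z : (pullback h (specAlg A K) : Scheme.{u}), pullback.fst h (specAlg A K) z = x := by
  obtain ⟨z, hz, -⟩ := Scheme.Pullback.exists_preimage_pullback (f := h) (g := specAlg A K) x
    (⟨⊥, Ideal.isPrime_bot⟩ : PrimeSpectrum K) (PrimeSpectrum.ext (hx.trans (specAlg_apply K _).symm))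
  exact ⟨z, hz⟩

theorem asIdeal_fst (z : (pullback h (specAlg A K) : Scheme.{u})) :
    (h (pullback.fst h (specAlg A K) z)).asIdeal = RingHom.ker (algebraMap A K) := by
  rw [← Scheme.Hom.comp_apply, pullback.condition, Scheme.Hom.comp_apply]
  exact specAlg_apply K _

/-- The trace of an affine open on a geometric fibre, as the spectrum of a tensor product. -/
theorem isPreirreducible_preimage {B : Type u} [CommRing B] [Algebra A B] (j : Spec (CommRingCat.of B) ⟶ X)
    [IsOpenImmersion j] (hj : j ≫ h = specAlg A B) (hB : IsPreirreducible (Set.univ : Set (PrimeSpectrum (K ⊗[A] B)))) :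
    IsPreirreducible (pullback.fst h (specAlg A K) ⁻¹' Set.range j) := by
  rw [← Scheme.Pullback.range_snd]
  let e : (pullback j (pullback.fst h (specAlg A K)) : Scheme.{u}) ≅ Spec (CommRingCat.of (K ⊗[A] B)) :=
    pullbackRightPullbackFstIso h (specAlg A K) j ≪≫ pullback.congrHom hj rfl ≪≫ pullbackSymmetry _ _ ≪≫
      pullbackSpecIso A K B
  rw [← Set.image_univ]
  refine IsPreirreducible.image ?_ _ (Scheme.Hom.continuous _).continuousOn
  rw [show (Set.univ : Set (pullback j (pullback.fst h (specAlg A K)) : Scheme.{u})) = e.inv '' Set.univ from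
    (Set.image_univ_of_surjective e.inv.surjective).symm]
  exact hB.image _ (Scheme.Hom.continuous _).continuousOn

/-- Irreducibility of the fibre descends along extensions of the field. -/
theorem irreducibleSpace_of_extension (L : Type u) [Field L] [Algebra A L] [Algebra K L] [IsScalarTower A K L]
    [IrreducibleSpace (pullback h (specAlg A L) : Scheme.{u})] :
    IrreducibleSpace (pullback h (specAlg A K) : Scheme.{u}) := by
  have hfac : specAlg K L ≫ specAlg A K = specAlg A L := by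
    rw [← Spec.map_comp, ← CommRingCat.ofHom_comp, ← IsScalarTower.algebraMap_eq]
  haveI : Surjective (specAlg K L) := ⟨fun c => ⟨(⟨⊥, Ideal.isPrime_bot⟩ : PrimeSpectrum L),
    Subsingleton.elim (α := PrimeSpectrum K) _ _⟩⟩
  let q : pullback (pullback.snd h (specAlg A K)) (specAlg K L) ⟶ pullback h (specAlg A K) := pullback.fst _ _
  let e : pullback (pullback.snd h (specAlg A K)) (specAlg K L) ≅ pullback h (specAlg A L) :=
    pullbackLeftPullbackSndIso h (specAlg A K) (specAlg K L) ≪≫ pullback.congrHom rfl hfac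
  haveI : IrreducibleSpace (pullback (pullback.snd h (specAlg A K)) (specAlg K L) : Scheme.{u}) :=
    e.hom.homeomorph.irreducibleSpace_iff.mpr inferInstance
  rw [irreducibleSpace_def, Set.top_eq_univ, ← Set.image_univ_of_surjective q.surjective]
  exact (IrreducibleSpace.isIrreducible_univ _).image _ q.continuous.continuousOn

end Field

/-- For a morphism of finite type to the spectrum of a domain with irreducible geometric generic fibre, the
fibres over some nonempty open of the base are geometrically irreducible. -/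
theorem exists_forall_irreducibleSpace {A : Type u} [CommRing A] [IsDomain A] {X : Scheme.{u}}
    (h : X ⟶ Spec (CommRingCat.of A)) [LocallyOfFiniteType h] [QuasiCompact h]
    (Ω : Type u) [Field Ω] [IsAlgClosed Ω] [Algebra A Ω] [Algebra.IsAlgebraic A Ω]
    (hΩ : Function.Injective (algebraMap A Ω)) [hirr : IrreducibleSpace (pullback h (specAlg A Ω) : Scheme.{u})] :
    ∃ a : A, a ≠ 0 ∧ ∀ (K : Type u) [Field K] [Algebra A K], algebraMap A K a ≠ 0 →
      IrreducibleSpace (pullback h (specAlg A K) : Scheme.{u}) := by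
  classical
  haveI : CompactSpace X := QuasiCompact.compactSpace_of_compactSpace h
  obtain ⟨s, hs⟩ := isCompact_univ.elim_finite_subcover (fun U : X.affineOpens => (U : Set X)) (fun U => U.1.isOpen)
    fun x _ => by
      obtain ⟨_, ⟨U, hU, rfl⟩, hxU, -⟩ := X.isBasis_affineOpens.exists_subset_of_mem_open (Set.mem_univ x) isOpen_univ
      exact Set.mem_iUnion.mpr ⟨⟨U, hU⟩, hxU⟩
  have hcov : ∀ x : X, ∃ U ∈ s, x ∈ (U : X.Opens) := fun x => by simpa using hs (Set.mem_univ x)
  let pΩ := pullback.fst h (specAlg A Ω)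
  have hgen : ∀ z, (h (pΩ z)).asIdeal = ⊥ := fun z => by
    rw [asIdeal_fst]; exact (RingHom.injective_iff_ker_eq_bot _).mp hΩ
  -- each piece
  have hpiece : ∀ U : X.affineOpens, ∃ a : A, a ≠ 0 ∧ ((∀ z, pΩ z ∉ (U : X.Opens)) → ∀ x ∈ (U : X.Opens), a ∈ (h x).asIdeal) ∧
      ∀ (K : Type u) [Field K] [Algebra A K] [IsAlgClosed K], algebraMap A K a ≠ 0 →
        IsPreirreducible (pullback.fst h (specAlg A K) ⁻¹' (U : Set X)) := by
    intro U
    obtain ⟨φ, hφ⟩ := Spec.map_surjective (U.2.fromSpec ≫ h)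
    letI : Algebra A Γ(X, U) := φ.hom.toAlgebra
    have hj : U.2.fromSpec ≫ h = specAlg A Γ(X, U) := hφ.symm
    haveI : Algebra.FiniteType A Γ(X, U) := by
      have : LocallyOfFiniteType (Spec.map φ) := by rw [hφ]; infer_instance
      exact HasRingHomProperty.Spec_iff.mp this
    have hrange : Set.range U.2.fromSpec = (U : Set X) := U.2.range_fromSpec
    by_cases hinj : Function.Injective (algebraMap A Γ(X, U))
    · obtain ⟨Q, hQ, -, hQ0⟩ := Ideal.exists_comap_eq_of_mem_minimalPrimes (algebraMap A Γ(X, U)) (I := ⊥) ⊥ (by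
        rw [show Ideal.comap (algebraMap A Γ(X, U)) ⊥ = ⊥ from (RingHom.injective_iff_ker_eq_bot _).mp hinj]
        exact ⟨⟨Ideal.isPrime_bot, le_rfl⟩, fun _ _ _ => bot_le⟩)
      have hne : (pΩ ⁻¹' (U : Set X)).Nonempty := by
        let q : Spec Γ(X, U) := (⟨Q, hQ⟩ : PrimeSpectrum _)
        obtain ⟨z, hz⟩ := exists_fst_eq h Ω (U.2.fromSpec q) (by
          rw [← Scheme.Hom.comp_apply, hj, (RingHom.injective_iff_ker_eq_bot _).mp hΩ]
          exact hQ0)
        exact ⟨z, by show pΩ z ∈ (U : Set X); rw [hz, ← hrange]; exact ⟨q, rfl⟩⟩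
      have hT : (nilradical (Ω ⊗[A] Γ(X, U))).IsPrime := by
        rw [← PrimeSpectrum.irreducibleSpace_iff_isPrime_nilradical]
        let e : (pullback U.2.fromSpec pΩ : Scheme.{u}) ≅ Spec (CommRingCat.of (Ω ⊗[A] Γ(X, U))) :=
          pullbackRightPullbackFstIso h (specAlg A Ω) U.2.fromSpec ≪≫ pullback.congrHom hj rfl ≪≫
            pullbackSymmetry _ _ ≪≫ pullbackSpecIso A Ω Γ(X, U)
        obtain ⟨z, hz⟩ := hne
        haveI : Nonempty (pullback U.2.fromSpec pΩ : Scheme.{u}) := by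
          obtain ⟨w, -⟩ : z ∈ Set.range (pullback.snd U.2.fromSpec pΩ) := by
            rw [Scheme.Pullback.range_snd, hrange]; exact hz
          exact ⟨w⟩
        exact e.hom.homeomorph.irreducibleSpace_iff.mp (pullback.snd U.2.fromSpec pΩ).isOpenEmbedding.irreducibleSpace
      obtain ⟨a, ha, hK⟩ := exists_forall_isPrime_nilradical Ω hΩ hT
      refine ⟨a, ha, fun hno => ?_, fun K _ _ _ haK => ?_⟩
      · obtain ⟨z, hz⟩ := hne
        exact absurd hz (hno z)
      · rw [← hrange]
        refine isPreirreducible_preimage h K U.2.fromSpec hj ?_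
        haveI := PrimeSpectrum.irreducibleSpace_iff_isPrime_nilradical.mpr (hK K haK)
        exact (IrreducibleSpace.isIrreducible_univ _).isPreirreducible
    · rw [injective_iff_map_eq_zero] at hinj
      push Not at hinj
      obtain ⟨a, ha, ha0⟩ := hinj
      have hmem : ∀ x ∈ (U : X.Opens), a ∈ (h x).asIdeal := fun x hx => by
        obtain ⟨q, rfl⟩ : x ∈ Set.range U.2.fromSpec := hrange.symm ▸ hx
        rw [← Scheme.Hom.comp_apply, hj]
        show algebraMap A Γ(X, U) a ∈ (q : PrimeSpectrum _).asIdeal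
        rw [ha]
        exact Ideal.zero_mem _
      refine ⟨a, ha0, fun _ => hmem, fun K _ _ _ haK => ?_⟩
      rw [show pullback.fst h (specAlg A K) ⁻¹' (U : Set X) = ∅ from Set.eq_empty_of_forall_notMem fun z hz => haK
        (RingHom.mem_ker.mp (asIdeal_fst h K z ▸ hmem _ hz))]
      exact Set.subsingleton_empty.isPreirreducible
  choose aU haU0 hempty hpre using hpiece
  -- pairwise meets
  have hmeet : ∀ U V : X.affineOpens, (∃ z, pΩ z ∈ (U : X.Opens)) → (∃ z, pΩ z ∈ (V : X.Opens)) →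
      ∃ a : A, a ≠ 0 ∧ ∀ p : Spec (CommRingCat.of A), a ∉ p.asIdeal → ∃ x ∈ (U : X.Opens) ⊓ V, h x = p := by
    intro U V ⟨z₁, hz₁⟩ ⟨z₂, hz₂⟩
    obtain ⟨z, -, hzU, hzV⟩ := (IrreducibleSpace.isIrreducible_univ _).2 _ _
      ((U : X.Opens).isOpen.preimage pΩ.continuous) ((V : X.Opens).isOpen.preimage pΩ.continuous)
      ⟨z₁, trivial, hz₁⟩ ⟨z₂, trivial, hz₂⟩
    obtain ⟨_, ⟨W, hW, rfl⟩, hxW, hWle⟩ :=
      X.isBasis_affineOpens.exists_subset_of_mem_open (show pΩ z ∈ ((U : X.Opens) ⊓ V : X.Opens) from ⟨hzU, hzV⟩)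
        ((U : X.Opens) ⊓ V).isOpen
    obtain ⟨φ, hφ⟩ := Spec.map_surjective (hW.fromSpec ≫ h)
    letI : Algebra A Γ(X, W) := φ.hom.toAlgebra
    have hj : hW.fromSpec ≫ h = specAlg A Γ(X, W) := hφ.symm
    haveI : Algebra.FiniteType A Γ(X, W) := by
      have : LocallyOfFiniteType (Spec.map φ) := by rw [hφ]; infer_instance
      exact HasRingHomProperty.Spec_iff.mp this
    obtain ⟨q, hq⟩ : pΩ z ∈ Set.range hW.fromSpec := by rw [hW.range_fromSpec]; exact hxW
    obtain ⟨a, ha, hr⟩ := Groth.Agent.S4585.exists_basicOpen_subset_range (A := A) (B := Γ(X, W))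
      ⟨⊥, Ideal.isPrime_bot⟩ ⟨q, PrimeSpectrum.ext (by
        rw [show PrimeSpectrum.comap (algebraMap A Γ(X, W)) q = specAlg A Γ(X, W) q from rfl, ← hj,
          Scheme.Hom.comp_apply]
        show (h (hW.fromSpec q)).asIdeal = ⊥
        rw [hq]
        exact hgen z)⟩
    refine ⟨a, fun h0 => ha (by rw [h0]; exact Ideal.zero_mem _), fun p hp => ?_⟩
    obtain ⟨Q, hQ⟩ := hr p bot_le hp
    refine ⟨hW.fromSpec Q, hWle (by rw [← hW.range_fromSpec]; exact ⟨Q, rfl⟩), ?_⟩
    rw [← Scheme.Hom.comp_apply, hj]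
    exact hQ
  let s' : Finset X.affineOpens := s.filter fun U : X.affineOpens => ∃ z, pΩ z ∈ (U : X.Opens)
  choose aM haM0 haM using fun q : s' × s' => hmeet q.1.1 q.2.1 (Finset.mem_filter.mp q.1.2).2 (Finset.mem_filter.mp q.2.2).2
  refine ⟨(∏ U ∈ s, aU U) * ∏ q : s' × s', aM q,
    mul_ne_zero (Finset.prod_ne_zero_iff.mpr fun U _ => haU0 U) (Finset.prod_ne_zero_iff.mpr fun q _ => haM0 q),
    fun K _ _ hK => ?_⟩
  suffices halg : ∀ (L : Type u) [Field L] [Algebra A L] [IsAlgClosed L],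
      algebraMap A L ((∏ U ∈ s, aU U) * ∏ q : s' × s', aM q) ≠ 0 →
      IrreducibleSpace (pullback h (specAlg A L) : Scheme.{u}) by
    haveI := halg (AlgebraicClosure K) (by
      rw [IsScalarTower.algebraMap_apply A K (AlgebraicClosure K)]
      exact (map_ne_zero_iff _ (algebraMap K _).injective).mpr hK)
    exact irreducibleSpace_of_extension h K (AlgebraicClosure K)
  intro L _ _ _ hL
  simp only [map_mul, map_prod, ne_eq, mul_eq_zero, not_or, Finset.prod_eq_zero_iff, not_exists, not_and,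
    Finset.mem_univ, forall_const] at hL
  let pL := pullback.fst h (specAlg A L)
  have hs' : ∀ U ∈ s, (pL ⁻¹' ((U : X.Opens) : Set X)).Nonempty → U ∈ s' := fun U hU ⟨z, hz⟩ => by
    refine Finset.mem_filter.mpr ⟨hU, ?_⟩
    by_contra hno
    push Not at hno
    exact hL.1 U hU (RingHom.mem_ker.mp (asIdeal_fst h L z ▸ hempty U hno _ hz))
  let pK : Spec (CommRingCat.of A) := (⟨RingHom.ker (algebraMap A L), RingHom.ker_isPrime _⟩ : PrimeSpectrum A)
  have hpair : ∀ U V : s', ∃ z, pL z ∈ ((U : X.affineOpens) : X.Opens) ∧ pL z ∈ ((V : X.affineOpens) : X.Opens) := fun U V => by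
    obtain ⟨x, hx, hxp⟩ := haM (U, V) pK (fun hm => hL.2 (U, V) hm)
    obtain ⟨z, hz⟩ := exists_fst_eq h L x (by rw [hxp])
    exact ⟨z, hz ▸ hx.1, hz ▸ hx.2⟩
  haveI : Nonempty (pullback h (specAlg A L) : Scheme.{u}) := by
    obtain ⟨z⟩ : Nonempty (pullback h (specAlg A Ω) : Scheme.{u}) := hirr.toNonempty
    obtain ⟨U, hU, hxU⟩ := hcov (pΩ z)
    obtain ⟨w, -⟩ := hpair ⟨U, Finset.mem_filter.mpr ⟨hU, z, hxU⟩⟩ ⟨U, Finset.mem_filter.mpr ⟨hU, z, hxU⟩⟩
    exact ⟨w⟩
  refine irreducibleSpace_of_open_cover (fun U : s => pL ⁻¹' ((U.1 : X.Opens) : Set X))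
    (fun U => (U.1 : X.Opens).isOpen.preimage pL.continuous) (fun z => ?_)
    (fun U => hpre U.1 L (hL.1 U.1 U.2)) fun U V hU hV => ?_
  · obtain ⟨U, hU, hxU⟩ := hcov (pL z)
    exact ⟨⟨U, hU⟩, hxU⟩
  · exact hpair ⟨U.1, hs' _ U.2 hU⟩ ⟨V.1, hs' _ V.2 hV⟩

end Groth.L07.Spread
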