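import Groth.Agent.L07.Spread.SchemeIrred
import Groth.Agent.L07.GeomReducedDescent
import Mathlib.RingTheory.FiniteType
import Mathlib.RingTheory.Polynomial.Basic

/-!
Closed subsets of the geometric generic fibre are defined over a coefficient ring of finite type.
-/

universe u

open CategoryTheory CategoryTheory.Limits AlgebraicGeometry TensorProduct

namespace Groth.L07.Spread

set_option autoImplicit false
set_option linter.style.haveILetI false
set_option maxSynthPendingDepth 3
set_option backward.isDefEq.respectTransparency.types false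
set_option backward.isDefEq.respectTransparency false

section Map

variable {A : Type u} [CommRing A] {X : Scheme.{u}} (h : X ⟶ Spec (CommRingCat.of A))

/-- The map between base changes of a scheme along a map of algebras. -/
noncomputable def bcTo {C D : Type u} [CommRing C] [CommRing D] [Algebra A C] [Algebra A D] (θ : C →ₐ[A] D) :
    pullback h (specAlg A D) ⟶ pullback h (specAlg A C) :=
  pullback.map _ _ _ _ (𝟙 X) (Spec.map (CommRingCat.ofHom θ.toRingHom)) (𝟙 _) (by simp) (by
    rw [Category.comp_id, ← Spec.map_comp, ← CommRingCat.ofHom_comp]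
    exact congrArg (fun ψ => Spec.map (CommRingCat.ofHom ψ)) θ.comp_algebraMap.symm)

@[reassoc (attr := simp)]
theorem bcTo_fst {C D : Type u} [CommRing C] [CommRing D] [Algebra A C] [Algebra A D] (θ : C →ₐ[A] D) :
    bcTo h θ ≫ pullback.fst h (specAlg A C) = pullback.fst h (specAlg A D) := by
  simp [bcTo]

@[reassoc (attr := simp)]
theorem bcTo_snd {C D : Type u} [CommRing C] [CommRing D] [Algebra A C] [Algebra A D] (θ : C →ₐ[A] D) :
    bcTo h θ ≫ pullback.snd h (specAlg A C) = pullback.snd h (specAlg A D) ≫ Spec.map (CommRingCat.ofHom θ.toRingHom) := by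
  simp [bcTo]

theorem fst_bcTo {C D : Type u} [CommRing C] [CommRing D] [Algebra A C] [Algebra A D] (θ : C →ₐ[A] D)
    (z : (pullback h (specAlg A D) : Scheme.{u})) :
    pullback.fst h (specAlg A C) (bcTo h θ z) = pullback.fst h (specAlg A D) z := by
  rw [← Scheme.Hom.comp_apply, bcTo_fst]

/-- The trace of an affine piece on a base change. -/
theorem exists_piece {B : Type u} [CommRing B] [Algebra A B] (j : Spec (CommRingCat.of B) ⟶ X) [IsOpenImmersion j]
    (hj : j ≫ h = specAlg A B) (C : Type u) [CommRing C] [Algebra A C] :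
    ∃ jC : Spec (CommRingCat.of (C ⊗[A] B)) ⟶ pullback h (specAlg A C), IsOpenImmersion jC ∧
      Set.range jC = pullback.fst h (specAlg A C) ⁻¹' Set.range j ∧
      jC ≫ pullback.fst h (specAlg A C) =
        Spec.map (CommRingCat.ofHom (Algebra.TensorProduct.includeRight : B →ₐ[A] C ⊗[A] B).toRingHom) ≫ j ∧
      jC ≫ pullback.snd h (specAlg A C) = Spec.map (CommRingCat.ofHom Algebra.TensorProduct.includeLeftRingHom) := by
  let e : pullback j (pullback.fst h (specAlg A C)) ≅ Spec (CommRingCat.of (C ⊗[A] B)) :=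
    pullbackRightPullbackFstIso h (specAlg A C) j ≪≫ pullback.congrHom hj rfl ≪≫ pullbackSymmetry _ _ ≪≫
      pullbackSpecIso A C B
  have hcomm : IsIso e.inv := inferInstance
  refine ⟨e.inv ≫ pullback.snd j (pullback.fst h (specAlg A C)), inferInstance, ?_, ?_, ?_⟩
  · have : Set.range (e.inv ≫ pullback.snd j (pullback.fst h (specAlg A C))) =
        Set.range (pullback.snd j (pullback.fst h (specAlg A C))) := by
      ext z
      refine ⟨fun ⟨w, hw⟩ => ⟨e.inv w, hw⟩, fun ⟨w, hw⟩ => ⟨e.hom w, ?_⟩⟩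
      rw [Scheme.Hom.comp_apply, ← hw, ← Scheme.Hom.comp_apply e.hom, e.hom_inv_id]
      rfl
    rw [this, Scheme.Pullback.range_snd]
  · simp [e, ← pullback.condition]
  · simp [e]

end Map

/-- Finitely many closed subsets of the generic geometric fibre come from a coefficient ring of finite type:
each is the preimage of the closure of its image. -/
theorem exists_stage_closed {A : Type u} [CommRing A] {X : Scheme.{u}}
    (h : X ⟶ Spec (CommRingCat.of A)) [LocallyOfFiniteType h] [QuasiCompact h]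
    (Ω : Type u) [Field Ω] [Algebra A Ω]
    {ι : Type*} [Finite ι] (T : ι → Set (pullback h (specAlg A Ω) : Scheme.{u})) (hT : ∀ i, IsClosed (T i)) :
    ∃ A' : Subalgebra A Ω, A'.FG ∧ ∀ i, bcTo h A'.val ⁻¹' closure (bcTo h A'.val '' T i) ⊆ T i := by
  classical
  haveI : CompactSpace X := QuasiCompact.compactSpace_of_compactSpace h
  cases nonempty_fintype ι
  obtain ⟨s, hs⟩ := isCompact_univ.elim_finite_subcover (fun U : X.affineOpens => (U : Set X)) (fun U => U.1.isOpen)
    fun x _ => by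
      obtain ⟨_, ⟨U, hU, rfl⟩, hxU, -⟩ := X.isBasis_affineOpens.exists_subset_of_mem_open (Set.mem_univ x) isOpen_univ
      exact Set.mem_iUnion.mpr ⟨⟨U, hU⟩, hxU⟩
  have hpiece : ∀ (U : X.affineOpens) (i : ι), ∃ A₀ : Subalgebra A Ω, A₀.FG ∧ ∀ A' : Subalgebra A Ω, A₀ ≤ A' →
      ∀ z, pullback.fst h (specAlg A Ω) z ∈ (U : X.Opens) → bcTo h A'.val z ∈ closure (bcTo h A'.val '' T i) → z ∈ T i := by
    intro U i
    obtain ⟨φ, hφ⟩ := Spec.map_surjective (U.2.fromSpec ≫ h)
    letI : Algebra A Γ(X, U) := φ.hom.toAlgebra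
    have hj : U.2.fromSpec ≫ h = specAlg A Γ(X, U) := hφ.symm
    haveI : Algebra.FiniteType A Γ(X, U) := by
      have : LocallyOfFiniteType (Spec.map φ) := by rw [hφ]; infer_instance
      exact HasRingHomProperty.Spec_iff.mp this
    haveI : IsNoetherianRing (Ω ⊗[A] Γ(X, U)) := Algebra.FiniteType.isNoetherianRing Ω _
    obtain ⟨jΩ, hjΩo, hjΩr, hjΩf, hjΩs⟩ := exists_piece h U.2.fromSpec hj Ω
    obtain ⟨I, hI⟩ := (PrimeSpectrum.isClosed_iff_zeroLocus_ideal _).mp ((hT i).preimage jΩ.continuous)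
    have hiff : ∀ q, jΩ q ∈ T i ↔ I ≤ q.asIdeal := fun q => Set.ext_iff.mp hI q
    obtain ⟨G, hG⟩ := (inferInstance : IsNoetherian (Ω ⊗[A] Γ(X, U)) (Ω ⊗[A] Γ(X, U))).noetherian I
    obtain ⟨A₀, hA₀, hstage⟩ := Groth.L07.FlatGeomReduced.exists_stage_mem (A₁ := A) (A := Ω) G
    refine ⟨A₀, hA₀, fun A' hle z hz hzcl => ?_⟩
    obtain ⟨j', hj'o, hj'r, hj'f, hj's⟩ := exists_piece h U.2.fromSpec hj A'
    let θ : A' ⊗[A] Γ(X, U) →ₐ[A] Ω ⊗[A] Γ(X, U) := Algebra.TensorProduct.map A'.val (AlgHom.id A _)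
    have hsq : jΩ ≫ bcTo h A'.val = Spec.map (CommRingCat.ofHom θ.toRingHom) ≫ j' := by
      apply pullback.hom_ext
      · rw [Category.assoc, bcTo_fst, hjΩf, Category.assoc, hj'f, ← Spec.map_comp_assoc, ← CommRingCat.ofHom_comp]
        congr 3
      · rw [Category.assoc, bcTo_snd, reassoc_of% hjΩs, Category.assoc, hj's, ← Spec.map_comp, ← Spec.map_comp,
          ← CommRingCat.ofHom_comp, ← CommRingCat.ofHom_comp]
        congr 2
    obtain ⟨q, rfl⟩ : z ∈ Set.range jΩ := by rw [hjΩr, Set.mem_preimage, U.2.range_fromSpec]; exact hz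
    rw [hiff, ← hG, Submodule.span_le]
    intro g hg
    obtain ⟨w, hw⟩ := hstage g hg
    let g' : A' ⊗[A] Γ(X, U) := Algebra.TensorProduct.map (Subalgebra.inclusion hle) (AlgHom.id A _) w
    have hg' : θ g' = g := by
      rw [← hw, ← AlgHom.comp_apply, ← Algebra.TensorProduct.map_comp]
      rfl
    by_contra hgq
    -- a neighbourhood of the image missing the image of the closed set
    have himg : bcTo h A'.val (jΩ q) = j' (Spec.map (CommRingCat.ofHom θ.toRingHom) q) := by
      rw [← Scheme.Hom.comp_apply, hsq, Scheme.Hom.comp_apply]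
    obtain ⟨_, ⟨p, hp, hpz⟩, ⟨z', hz', rfl⟩⟩ := mem_closure_iff.mp hzcl _
      (j'.isOpenEmbedding.isOpenMap _ (PrimeSpectrum.basicOpen g').isOpen)
      ⟨Spec.map (CommRingCat.ofHom θ.toRingHom) q, fun hm => hgq (by
        have : θ g' ∈ q.asIdeal := hm
        rwa [hg'] at this), himg.symm⟩
    obtain ⟨q', rfl⟩ : z' ∈ Set.range jΩ := by
      rw [hjΩr, Set.mem_preimage, ← fst_bcTo h A'.val, ← hpz, ← Set.mem_preimage, ← hj'r]
      exact ⟨p, rfl⟩
    have hq' : p = Spec.map (CommRingCat.ofHom θ.toRingHom) q' := j'.isOpenEmbedding.injective (by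
      rw [hpz, ← Scheme.Hom.comp_apply, hsq, Scheme.Hom.comp_apply])
    have h2 : g ∈ q'.asIdeal := (hiff q').mp hz' (hG ▸ Submodule.subset_span hg)
    rw [hq'] at hp
    exact hp (show θ g' ∈ q'.asIdeal by rw [hg']; exact h2)
  choose A₀ hA₀ hA₀' using hpiece
  refine ⟨(s ×ˢ (Finset.univ : Finset ι)).sup fun q => A₀ q.1 q.2, ?_, fun i z hz => ?_⟩
  · refine Finset.sup_induction Subalgebra.fg_bot (fun _ h₁ _ h₂ => h₁.sup h₂) fun q _ => hA₀ q.1 q.2
  · obtain ⟨U, hU, hxU⟩ := Set.mem_iUnion₂.mp (hs (Set.mem_univ (pullback.fst h (specAlg A Ω) z)))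
    exact hA₀' U i _ (Finset.le_sup (f := fun q : X.affineOpens × ι => A₀ q.1 q.2)
      (Finset.mem_product.mpr ⟨hU, Finset.mem_univ i⟩ : (U, i) ∈ _)) z hxU hz

end Groth.L07.Spread
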