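import Groth.Agent.L07.Spread.SchemeIrred
import Mathlib.AlgebraicGeometry.AffineScheme
import Mathlib.AlgebraicGeometry.Restrict
import Mathlib.AlgebraicGeometry.Geometrically.Basic
import Mathlib.AlgebraicGeometry.Fiber

/-!
An integral affine base near the generic point of an irreducible scheme.
-/

universe u

open CategoryTheory CategoryTheory.Limits AlgebraicGeometry

namespace Groth.L07.Spread

set_option autoImplicit false
set_option linter.style.haveILetI false
set_option maxSynthPendingDepth 3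
set_option backward.isDefEq.respectTransparency.types false
set_option backward.isDefEq.respectTransparency false

/-- Near the generic point of an irreducible scheme all fields valued points come from an integral affine scheme. -/
theorem exists_integral_base (Y : Scheme.{u}) [IrreducibleSpace Y] :
    ∃ (A : CommRingCat.{u}) (_ : IsDomain A) (i : Spec A ⟶ Y),
      (∀ p : Spec A, p.asIdeal = ⊥ → i p = genericPoint Y) ∧
      ∀ a : A, a ≠ 0 → ∃ V : Y.Opens, genericPoint Y ∈ V ∧ ∀ (K : Type u) [Field K] (g : Spec (CommRingCat.of K) ⟶ Y),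
        (∀ c, g c ∈ V) → ∃ φ : A ⟶ CommRingCat.of K, Spec.map φ ≫ i = g ∧ φ.hom a ≠ 0 := by
  obtain ⟨_, ⟨S, hS, rfl⟩, hξS, -⟩ :=
    Y.isBasis_affineOpens.exists_subset_of_mem_open (Set.mem_univ (genericPoint Y)) isOpen_univ
  haveI : Nonempty (Spec Γ(Y, S) : Scheme.{u}) := by
    obtain ⟨q, -⟩ : genericPoint Y ∈ Set.range hS.fromSpec := by rw [hS.range_fromSpec]; exact hξS
    exact ⟨q⟩
  haveI : IrreducibleSpace (Spec Γ(Y, S) : Scheme.{u}) := hS.fromSpec.isOpenEmbedding.irreducibleSpace
  have hN : (nilradical Γ(Y, S)).IsPrime := PrimeSpectrum.irreducibleSpace_iff_isPrime_nilradical.mp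
    (inferInstance : IrreducibleSpace (Spec Γ(Y, S) : Scheme.{u}))
  let A : CommRingCat.{u} := CommRingCat.of (Γ(Y, S) ⧸ nilradical Γ(Y, S))
  let π : Γ(Y, S) ⟶ A := CommRingCat.ofHom (Ideal.Quotient.mk _)
  refine ⟨A, Ideal.Quotient.isDomain _, Spec.map π ≫ hS.fromSpec, fun p hp => ?_, fun a ha => ?_⟩
  · obtain ⟨q, hq⟩ : genericPoint Y ∈ Set.range hS.fromSpec := by rw [hS.range_fromSpec]; exact hξS
    rw [Scheme.Hom.comp_apply, ← hq]
    congr 1
    refine PrimeSpectrum.ext (le_antisymm ?_ ?_)
    · intro r hr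
      have h0 : π.hom r = 0 := by rw [← Ideal.mem_bot, ← hp]; exact hr
      exact (nilradical_le_prime _) (Ideal.Quotient.eq_zero_iff_mem.mp h0)
    · have hspec : q ⤳ Spec.map π p := by
        rw [← hS.fromSpec.isOpenEmbedding.isInducing.specializes_iff, hq]
        exact (genericPoint_spec Y).specializes trivial
      exact (PrimeSpectrum.le_iff_specializes _ _).mpr hspec
  · obtain ⟨a₀, rfl⟩ := Ideal.Quotient.mk_surjective (a : Γ(Y, S) ⧸ nilradical Γ(Y, S))
    have ha₀ : a₀ ∉ nilradical Γ(Y, S) := fun h => ha (Ideal.Quotient.eq_zero_iff_mem.mpr h)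
    refine ⟨Y.basicOpen a₀, ?_, fun K _ g hg => ?_⟩
    · obtain ⟨q, hq⟩ : genericPoint Y ∈ Set.range hS.fromSpec := by rw [hS.range_fromSpec]; exact hξS
      obtain ⟨p, hp⟩ : ∃ p : PrimeSpectrum Γ(Y, S), p.asIdeal = nilradical Γ(Y, S) := ⟨⟨_, hN⟩, rfl⟩
      have hpq : q ⤳ (p : Spec Γ(Y, S)) := by
        rw [← hS.fromSpec.isOpenEmbedding.isInducing.specializes_iff, hq]
        exact (genericPoint_spec Y).specializes trivial
      refine hpq.map hS.fromSpec.continuous |>.mem_open (Y.basicOpen a₀).isOpen ?_ |> fun h => hq ▸ h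
      show p ∈ hS.fromSpec ⁻¹ᵁ Y.basicOpen a₀
      rw [hS.fromSpec_preimage_basicOpen]
      show a₀ ∉ p.asIdeal
      rwa [hp]
    · have hrange : Set.range g ⊆ Set.range hS.fromSpec := by
        rintro _ ⟨c, rfl⟩
        rw [hS.range_fromSpec]
        exact Y.basicOpen_le a₀ (hg c)
      obtain ⟨ψ, hψ⟩ := Spec.map_surjective (IsOpenImmersion.lift hS.fromSpec g hrange)
      have hker : ∀ r ∈ nilradical Γ(Y, S), ψ.hom r = 0 := fun r hr => ((mem_nilradical.mp hr).map ψ.hom).eq_zero
      refine ⟨CommRingCat.ofHom (Ideal.Quotient.lift _ ψ.hom hker), ?_, ?_⟩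
      · rw [← Category.assoc, ← Spec.map_comp]
        have : π ≫ CommRingCat.ofHom (Ideal.Quotient.lift _ ψ.hom hker) = ψ :=
          CommRingCat.hom_ext (Ideal.Quotient.lift_comp_mk _ _ _)
        rw [this, hψ, IsOpenImmersion.lift_fac]
      · show Ideal.Quotient.lift _ ψ.hom hker (Ideal.Quotient.mk _ a₀) ≠ 0
        rw [Ideal.Quotient.lift_mk]
        intro h0
        let c : Spec (CommRingCat.of K) := (⟨⊥, Ideal.isPrime_bot⟩ : PrimeSpectrum K)
        have hc : g c ∈ Y.basicOpen a₀ := hg c
        rw [← IsOpenImmersion.lift_fac hS.fromSpec g hrange, ← hψ, Scheme.Hom.comp_apply] at hc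
        have hc' : Spec.map ψ c ∈ hS.fromSpec ⁻¹ᵁ Y.basicOpen a₀ := hc
        rw [hS.fromSpec_preimage_basicOpen] at hc'
        exact hc' (show ψ.hom a₀ ∈ (⊥ : Ideal K) from h0)

/-- A property of the generic fibre holding geometrically holds over any field valued point at the generic point. -/
theorem pullback_of_geometrically_fiber {P : ObjectProperty Scheme.{u}} [P.IsClosedUnderIsomorphisms]
    {X Y : Scheme.{u}} (f : X ⟶ Y) (y : Y) (h : geometrically P (f.fiberToSpecResidueField y)) (K : Type u) [Field K]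
    (g : Spec (CommRingCat.of K) ⟶ Y) (hg : ∀ c, g c = y) : P (pullback f g) := by
  obtain ⟨⟨z, φ⟩, rfl⟩ := (Scheme.SpecToEquivOfField _ _).symm.surjective g
  obtain rfl : z = y := by
    rw [← hg (⟨⊥, Ideal.isPrime_bot⟩ : PrimeSpectrum K)]
    show z = (Spec.map φ ≫ Y.fromSpecResidueField z) _
    rw [Scheme.Hom.comp_apply, Scheme.fromSpecResidueField_apply]
  exact P.prop_of_iso (pullbackLeftPullbackSndIso f (Y.fromSpecResidueField z) (Spec.map φ))
    (pullback_of_geometrically h K (Spec.map φ))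

/-- A geometric property of a restriction can be checked on the morphism itself. -/
theorem geometrically_morphismRestrict {P : ObjectProperty Scheme.{u}} [P.IsClosedUnderIsomorphisms]
    {X Y : Scheme.{u}} (f : X ⟶ Y) (V : Y.Opens)
    (h : ∀ (K : Type u) [Field K] (g : Spec (CommRingCat.of K) ⟶ Y), (∀ c, g c ∈ V) → P (pullback f g)) :
    geometrically P (f ∣_ V) := by
  intro K _ g Z fst snd hsq
  have hbig := hsq.paste_horiz (isPullback_morphismRestrict f V).flip
  exact P.prop_of_iso hbig.isoPullback.symm (h K _ fun c => by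
    rw [Scheme.Hom.comp_apply]; exact (g c).2)

/-- A fibre property holding on geometric fibres over an integral affine base spreads to the irreducible base. -/
theorem exists_geometrically_restrict {P : ObjectProperty Scheme.{u}} [P.IsClosedUnderIsomorphisms]
    {X Y : Scheme.{u}} (f : X ⟶ Y) [IrreducibleSpace Y] [LocallyOfFiniteType f] [QuasiCompact f]
    (hη : geometrically P (f.fiberToSpecResidueField (genericPoint Y)))
    (hspread : ∀ (A : Type u) [CommRing A] [IsDomain A] (X' : Scheme.{u}) (h : X' ⟶ Spec (CommRingCat.of A))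
      [LocallyOfFiniteType h] [QuasiCompact h],
      (∀ (K : Type u) [Field K] [Algebra A K], Function.Injective (algebraMap A K) → P (pullback h (specAlg A K))) →
      ∃ a : A, a ≠ 0 ∧ ∀ (K : Type u) [Field K] [Algebra A K], algebraMap A K a ≠ 0 →
        P (pullback h (specAlg A K))) :
    ∃ V : Y.Opens, (V : Set Y).Nonempty ∧ geometrically P (f ∣_ V) := by
  obtain ⟨A, hA, i, hi, hV⟩ := exists_integral_base Y
  obtain ⟨a, ha, hK⟩ := hspread A (pullback f i) (pullback.snd f i) fun K _ _ hinj =>
    P.prop_of_iso (pullbackLeftPullbackSndIso f i (specAlg A K)).symm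
      (pullback_of_geometrically_fiber f _ hη K _ fun c => by
        rw [Scheme.Hom.comp_apply]
        exact hi _ ((specAlg_apply K c).trans ((RingHom.injective_iff_ker_eq_bot _).mp hinj)))
  obtain ⟨V, hξ, hVK⟩ := hV a ha
  refine ⟨V, ⟨_, hξ⟩, geometrically_morphismRestrict f V fun K _ g hg => ?_⟩
  obtain ⟨φ, rfl, hφa⟩ := hVK K g hg
  letI : Algebra A K := φ.hom.toAlgebra
  exact P.prop_of_iso (pullbackLeftPullbackSndIso f i (specAlg A K)) (hK K hφa)

end Groth.L07.Spread
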