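import Mathlib.RingTheory.MvPolynomial.Basic
import Mathlib.Algebra.MvPolynomial.CommRing
import Mathlib.RingTheory.Ideal.Quotient.Operations
import Mathlib.RingTheory.Localization.FractionRing
import Mathlib.LinearAlgebra.Basis.VectorSpace
import Mathlib.RingTheory.TensorProduct.Basic
import Mathlib.RingTheory.Polynomial.UniqueFactorization
import Mathlib.RingTheory.MvPolynomial.Tower
import Mathlib.RingTheory.Localization.BaseChange
import Mathlib.RingTheory.Ideal.Quotient.Operations

/-!
Principal opens of hypersurfaces, and torsion of base change to extensions of the fraction field.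
-/

universe u

open TensorProduct

namespace Groth.L07.Spread

set_option autoImplicit false
set_option linter.style.haveILetI false

variable {S : Type u} [CommRing S] {n : ℕ}

/-- The relations of a principal open of a hypersurface. -/
noncomputable def openRel (P g : MvPolynomial (Fin n) S) : Ideal (MvPolynomial (Option (Fin n)) S) :=
  Ideal.span {MvPolynomial.rename some P, MvPolynomial.rename some g * MvPolynomial.X none - 1}

theorem map_openRel {S' : Type u} [CommRing S'] (θ : S →+* S') (P g : MvPolynomial (Fin n) S) :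
    (openRel P g).map (MvPolynomial.map θ) = openRel (MvPolynomial.map θ P) (MvPolynomial.map θ g) := by
  rw [openRel, openRel, Ideal.map_span, Set.image_insert_eq, Set.image_singleton]
  simp [MvPolynomial.map_rename, MvPolynomial.map_X]

/-- The values at a point of the principal open. -/
noncomputable def openPt {L : Type u} [Field L] [Algebra S L] (v : Fin n → L) (g : MvPolynomial (Fin n) S) :
    Option (Fin n) → L :=
  fun o => o.elim (MvPolynomial.aeval v g)⁻¹ v

/-- The kernel at a generic point of a principal open of a hypersurface. -/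
theorem ker_aeval_openPt {L : Type u} [Field L] [Algebra S L] (v : Fin n → L) (P g : MvPolynomial (Fin n) S)
    (hker : RingHom.ker (MvPolynomial.aeval v : MvPolynomial (Fin n) S →ₐ[S] L) = Ideal.span {P})
    (hg : MvPolynomial.aeval v g ≠ 0) :
    RingHom.ker (MvPolynomial.aeval (openPt v g) : MvPolynomial (Option (Fin n)) S →ₐ[S] L) = openRel P g := by
  set ι := (MvPolynomial.rename some : MvPolynomial (Fin n) S →ₐ[S] MvPolynomial (Option (Fin n)) S)
  set J := openRel P g
  have hιv : ∀ p, MvPolynomial.aeval (openPt v g) (ι p) = MvPolynomial.aeval v p := fun p => by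
    rw [MvPolynomial.aeval_rename]; rfl
  have hPJ : ι P ∈ J := Ideal.subset_span (Or.inl rfl)
  have hgJ : Ideal.Quotient.mk J (ι g) * Ideal.Quotient.mk J (MvPolynomial.X none) = 1 := by
    rw [← map_mul, ← map_one (Ideal.Quotient.mk J), Ideal.Quotient.eq]
    exact Ideal.subset_span (Or.inr rfl)
  refine le_antisymm (fun z hz => ?_) (Ideal.span_le.mpr ?_)
  · obtain ⟨M, z₀, hz₀⟩ : ∃ (M : ℕ) (z₀ : MvPolynomial (Fin n) S),
        Ideal.Quotient.mk J (ι g) ^ M * Ideal.Quotient.mk J z = Ideal.Quotient.mk J (ι z₀) := by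
      clear hz
      induction z using MvPolynomial.induction_on with
      | C a => exact ⟨0, MvPolynomial.C a, by simp [ι]⟩
      | add p q hp hq =>
        obtain ⟨M, p₀, hp₀⟩ := hp
        obtain ⟨N, q₀, hq₀⟩ := hq
        refine ⟨M + N, p₀ * g ^ N + q₀ * g ^ M, ?_⟩
        simp only [map_add, map_mul, map_pow, ← hp₀, ← hq₀]
        ring
      | mul_X p o hp =>
        obtain ⟨M, p₀, hp₀⟩ := hp
        cases o with
        | none =>
          refine ⟨M + 1, p₀, ?_⟩
          rw [← hp₀, map_mul, show Ideal.Quotient.mk J (ι g) ^ (M + 1) *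
              (Ideal.Quotient.mk J p * Ideal.Quotient.mk J (MvPolynomial.X none)) =
            Ideal.Quotient.mk J (ι g) ^ M * Ideal.Quotient.mk J p *
              (Ideal.Quotient.mk J (ι g) * Ideal.Quotient.mk J (MvPolynomial.X none)) by ring, hgJ, mul_one]
        | some k =>
          refine ⟨M, p₀ * MvPolynomial.X k, ?_⟩
          rw [map_mul, map_mul, map_mul, ← hp₀, show ι (MvPolynomial.X k) = MvPolynomial.X (some k) from
            MvPolynomial.rename_X _ _, mul_assoc]
    have hsub : ι g ^ M * z - ι z₀ ∈ J := by rw [← Ideal.Quotient.eq, map_mul, map_pow]; exact hz₀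
    have hle : J ≤ RingHom.ker (MvPolynomial.aeval (openPt v g) : MvPolynomial (Option (Fin n)) S →ₐ[S] L) := by
      refine Ideal.span_le.mpr ?_
      rintro x (rfl | rfl) <;> rw [SetLike.mem_coe, RingHom.mem_ker]
      · rw [hιv, ← RingHom.mem_ker, hker]; exact Ideal.mem_span_singleton_self P
      · rw [map_sub, map_mul, hιv, MvPolynomial.aeval_X, map_one, openPt, Option.elim_none, mul_inv_cancel₀ hg,
          sub_self]
    have h0 := RingHom.mem_ker.mp (hle hsub)
    rw [map_sub, map_mul, RingHom.mem_ker.mp hz, mul_zero, zero_sub, neg_eq_zero, hιv, ← RingHom.mem_ker, hker,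
      Ideal.mem_span_singleton] at h0
    obtain ⟨c, rfl⟩ := h0
    have h1 : Ideal.Quotient.mk J (ι g) ^ M * Ideal.Quotient.mk J z = 0 := by
      rw [hz₀, map_mul, map_mul, Ideal.Quotient.eq_zero_iff_mem.mpr hPJ, zero_mul]
    refine Ideal.Quotient.eq_zero_iff_mem.mp ?_
    calc Ideal.Quotient.mk J z
        = (Ideal.Quotient.mk J (ι g) * Ideal.Quotient.mk J (MvPolynomial.X none)) ^ M * Ideal.Quotient.mk J z := by
          rw [hgJ, one_pow, one_mul]
      _ = Ideal.Quotient.mk J (MvPolynomial.X none) ^ M *
            (Ideal.Quotient.mk J (ι g) ^ M * Ideal.Quotient.mk J z) := by ring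
      _ = 0 := by rw [h1, mul_zero]
  · rintro x (rfl | rfl) <;> rw [SetLike.mem_coe, RingHom.mem_ker]
    · rw [hιv, ← RingHom.mem_ker, hker]; exact Ideal.mem_span_singleton_self P
    · rw [map_sub, map_mul, hιv, MvPolynomial.aeval_X, map_one, openPt, Option.elim_none, mul_inv_cancel₀ hg,
        sub_self]

/-- Over a field a principal open of an irreducible hypersurface is empty or integral. -/
theorem openRel_isPrime {κ : Type u} [Field κ] (P g : MvPolynomial (Fin n) κ) (hP : Irreducible P)
    (hg : ¬ P ∣ g) : (openRel P g).IsPrime := by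
  haveI : (Ideal.span {P}).IsPrime := (Ideal.span_singleton_prime hP.ne_zero).mpr
    (UniqueFactorizationMonoid.irreducible_iff_prime.mp hP)
  let D := MvPolynomial (Fin n) κ ⧸ Ideal.span {P}
  let L := FractionRing D
  let π : MvPolynomial (Fin n) κ →ₐ[κ] L :=
    (IsScalarTower.toAlgHom κ D L).comp (Ideal.Quotient.mkₐ κ (Ideal.span {P}))
  let v : Fin n → L := fun i => π (MvPolynomial.X i)
  have hv : (MvPolynomial.aeval v : MvPolynomial (Fin n) κ →ₐ[κ] L) = π := (MvPolynomial.aeval_unique π).symm
  have hker : RingHom.ker (MvPolynomial.aeval v : MvPolynomial (Fin n) κ →ₐ[κ] L) = Ideal.span {P} := by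
    rw [hv]
    ext p
    rw [RingHom.mem_ker]
    show algebraMap D L (Ideal.Quotient.mk _ p) = 0 ↔ _
    rw [map_eq_zero_iff _ (IsFractionRing.injective D L), Ideal.Quotient.eq_zero_iff_mem]
  rw [← ker_aeval_openPt v P g hker fun h => hg (Ideal.mem_span_singleton.mp (hker.le h))]
  exact RingHom.ker_isPrime _

/-- Elements vanishing after base change to an extension of the fraction field are torsion. -/
theorem torsion_of_tmul_eq_zero (A Ω : Type u) [CommRing A] [IsDomain A] [Field Ω] [Algebra A Ω]
    (hinj : Function.Injective (algebraMap A Ω)) {M : Type u} [AddCommGroup M] [Module A M] (z : M)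
    (h : (1 : Ω) ⊗ₜ[A] z = 0) : ∃ a : A, a ≠ 0 ∧ a • z = 0 := by
  let K := FractionRing A
  letI : Algebra K Ω := (IsFractionRing.lift hinj).toAlgebra
  haveI : IsScalarTower A K Ω :=
    IsScalarTower.of_algebraMap_eq fun a => (IsFractionRing.lift_algebraMap hinj a).symm
  obtain ⟨r, hr⟩ := (Algebra.linearMap K Ω).exists_leftInverse_of_injective
    (LinearMap.ker_eq_bot.mpr (algebraMap K Ω).injective)
  have h1 := congrArg (LinearMap.rTensor M (r.restrictScalars A)) h
  rw [LinearMap.rTensor_tmul, map_zero, LinearMap.restrictScalars_apply, show r 1 = 1 by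
    have := LinearMap.congr_fun hr 1; simpa using this] at h1
  obtain ⟨s, hs⟩ := (IsLocalizedModule.eq_zero_iff (nonZeroDivisors A) (TensorProduct.mk A K M 1)).mp
    (h1 : (TensorProduct.mk A K M 1) z = 0)
  exact ⟨s, nonZeroDivisors.ne_zero s.2, hs⟩

/-- Membership in the relations descends up to torsion. -/
theorem torsion_openRel {A Ω : Type u} [CommRing A] [IsDomain A] [Field Ω] [Algebra A Ω]
    (hinj : Function.Injective (algebraMap A Ω)) (P g : MvPolynomial (Fin n) A)
    (z : MvPolynomial (Option (Fin n)) A)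
    (h : MvPolynomial.map (algebraMap A Ω) z ∈
      openRel (MvPolynomial.map (algebraMap A Ω) P) (MvPolynomial.map (algebraMap A Ω) g)) :
    ∃ a : A, a ≠ 0 ∧ MvPolynomial.C a * z ∈ openRel P g := by
  let J := openRel P g
  let M := MvPolynomial (Option (Fin n)) A ⧸ J
  let ε : MvPolynomial (Option (Fin n)) Ω →ₐ[Ω] Ω ⊗[A] M :=
    MvPolynomial.aeval (R := Ω) fun o => (1 : Ω) ⊗ₜ[A] Ideal.Quotient.mk J (MvPolynomial.X o)
  have hε : ∀ p, ε (MvPolynomial.map (algebraMap A Ω) p) = (1 : Ω) ⊗ₜ Ideal.Quotient.mk J p := fun p => by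
    induction p using MvPolynomial.induction_on with
    | C a =>
      rw [MvPolynomial.map_C, show ε (MvPolynomial.C (algebraMap A Ω a)) = algebraMap Ω (Ω ⊗[A] M) (algebraMap A Ω a)
        from MvPolynomial.aeval_C _ _, Algebra.TensorProduct.algebraMap_apply, Algebra.algebraMap_self, RingHom.id_apply,
        Algebra.algebraMap_eq_smul_one, TensorProduct.smul_tmul, ← map_one (Ideal.Quotient.mk J),
        MvPolynomial.C_eq_smul_one]
      rfl
    | add p q hp hq => rw [map_add, map_add, hp, hq, map_add, TensorProduct.tmul_add]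
    | mul_X p o hp =>
      rw [map_mul, map_mul, hp, MvPolynomial.map_X, show ε (MvPolynomial.X o) = (1 : Ω) ⊗ₜ[A] Ideal.Quotient.mk J
        (MvPolynomial.X o) from MvPolynomial.aeval_X _ _, Algebra.TensorProduct.tmul_mul_tmul, one_mul, map_mul]
  have h0 : ε (MvPolynomial.map (algebraMap A Ω) z) = 0 := by
    have hle : openRel (MvPolynomial.map (algebraMap A Ω) P) (MvPolynomial.map (algebraMap A Ω) g) ≤
        RingHom.ker ε := by
      rw [← map_openRel, Ideal.map_le_iff_le_comap]
      intro p hp
      rw [Ideal.mem_comap, RingHom.mem_ker, hε, Ideal.Quotient.eq_zero_iff_mem.mpr hp, TensorProduct.tmul_zero]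
    exact RingHom.mem_ker.mp (hle h)
  rw [hε] at h0
  obtain ⟨a, ha, ha'⟩ := torsion_of_tmul_eq_zero A Ω hinj _ h0
  refine ⟨a, ha, Ideal.Quotient.eq_zero_iff_mem.mp ?_⟩
  rw [← MvPolynomial.smul_eq_C_mul, ← ha']
  rfl

end Groth.L07.Spread
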