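import Groth.Agent.L20.GenericFreeSet
import Groth.Agent.L07.Spread.Poly
import Mathlib.RingTheory.Flat.Equalizer
import Mathlib.RingTheory.Flat.Basic
import Mathlib.RingTheory.TensorProduct.Free

/-!
Regularity of nonzero elements on all fibres over a nonempty open of the base.
-/

universe u

open TensorProduct

namespace Groth.L07.Spread

set_option autoImplicit false
set_option linter.style.haveILetI false
set_option maxSynthPendingDepth 3

open Groth.L20 in
/-- A nonzero element of an integral algebra of finite type over a domain stays regular, and the algebra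
stays nonzero, on the fibres over some nonempty open of the base. -/
theorem exists_regular {A B : Type u} [CommRing A] [IsDomain A] [CommRing B] [IsDomain B] [Algebra A B]
    [Algebra.FiniteType A B] (hinj : Function.Injective (algebraMap A B)) (h : B) (hh : h ≠ 0) :
    ∃ c : A, c ≠ 0 ∧ ∀ (κ : Type u) [Field κ] [Algebra A κ], algebraMap A κ c ≠ 0 →
      Nontrivial (κ ⊗[A] B) ∧ ∀ z : κ ⊗[A] B, ((1 : κ) ⊗ₜ h) * z = 0 → z = 0 := by
  obtain ⟨f₁, hf₁, hfree₁, -⟩ := GF.exists_free_and_nearlyFP (R := A) (S := B) B
  obtain ⟨f₂, hf₂, hfree₂, -⟩ := GF.exists_free_and_nearlyFP (R := A) (S := B) (B ⧸ (Ideal.span {h} : Ideal B))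
  refine ⟨f₁ * f₂, mul_ne_zero hf₁ hf₂, fun κ _ _ hκ => ?_⟩
  let R := Localization.Away (f₁ * f₂)
  have hu : IsUnit (algebraMap A R f₁) ∧ IsUnit (algebraMap A R f₂) := by
    rw [← IsUnit.mul_iff, ← map_mul]; exact IsLocalization.Away.algebraMap_isUnit _
  haveI hB : Module.Free R (R ⊗[A] B) := GF.free_of_isUnit _ hu.1 B
  haveI hQ : Module.Free R (R ⊗[A] (B ⧸ (Ideal.span {h} : Ideal B))) := GF.free_of_isUnit _ hu.2 _
  letI : Algebra R κ := (IsLocalization.Away.lift (S := R) (g := algebraMap A κ) (f₁ * f₂) (Ne.isUnit hκ)).toAlgebra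
  haveI : IsScalarTower A R κ :=
    IsScalarTower.of_algebraMap_eq fun a => (IsLocalization.Away.lift_eq (S := R) (f₁ * f₂) (Ne.isUnit hκ) a).symm
  constructor
  · have h1 : (1 : R) ⊗ₜ[A] (1 : B) ≠ 0 := fun h0 => by
      obtain ⟨⟨_, k, rfl⟩, hk⟩ := (IsLocalizedModule.eq_zero_iff (Submonoid.powers (f₁ * f₂))
        (TensorProduct.mk A R B 1)).mp h0
      refine pow_ne_zero k (mul_ne_zero hf₁ hf₂) (hinj ?_)
      rw [map_zero, ← hk]
      exact (Algebra.algebraMap_eq_smul_one _)
    haveI : Nontrivial (R ⊗[A] B) := ⟨⟨_, _, h1⟩⟩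
    haveI : Nontrivial (κ ⊗[R] (R ⊗[A] B)) := by
      let b := Module.Free.chooseBasis R (R ⊗[A] B)
      exact b.index_nonempty.elim fun i =>
        ⟨⟨_, 0, (Algebra.TensorProduct.basis κ b).ne_zero i⟩⟩
    exact (TensorProduct.AlgebraTensorModule.cancelBaseChange A R κ κ B).toEquiv.symm.nontrivial
  · intro z hz
    let g : B →ₗ[A] B := LinearMap.mulLeft A h
    let q : B →ₗ[A] B ⧸ (Ideal.span {h} : Ideal B) := (Ideal.Quotient.mkₐ A _).toLinearMap
    have hg : Function.Injective g := fun a b hab => mul_left_cancel₀ hh hab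
    have hex : Function.Exact g q := fun x => by
      show Ideal.Quotient.mk _ x = 0 ↔ x ∈ Set.range fun y => h * y
      rw [Ideal.Quotient.eq_zero_iff_mem, Ideal.mem_span_singleton']
      exact exists_congr fun y => by rw [mul_comm]
    let gR := g.baseChange R
    let qR := q.baseChange R
    haveI : Module.Flat R (R ⊗[A] (B ⧸ (Ideal.span {h} : Ideal B))) := inferInstance
    haveI : Module.Flat A R := IsLocalization.flat R (Submonoid.powers (f₁ * f₂))
    have hgR : Function.Injective gR := Module.Flat.lTensor_preserves_injective_linearMap (M := R) g hg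
    have hexR : Function.Exact gR qR := Module.Flat.lTensor_exact R hex
    have hsR : Function.Surjective qR := LinearMap.lTensor_surjective R Ideal.Quotient.mk_surjective
    have key := LinearMap.lTensor_injective_of_exact_of_flat qR hsR gR hgR hexR κ
    let e := TensorProduct.AlgebraTensorModule.cancelBaseChange A R κ κ B
    have hcomm : ∀ w, e (gR.lTensor κ w) = ((1 : κ) ⊗ₜ h) * e w := by
      intro w
      induction w using TensorProduct.induction_on with
      | zero => simp
      | add a b ha hb => simp only [map_add, ha, hb, mul_add]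
      | tmul a rb =>
        induction rb using TensorProduct.induction_on with
        | zero => simp
        | add x y hx hy =>
          simp only [TensorProduct.tmul_add, map_add, mul_add] at *
          rw [hx, hy]
        | tmul r b =>
          show e (a ⊗ₜ (r ⊗ₜ (h * b))) = ((1 : κ) ⊗ₜ h) * ((r • a) ⊗ₜ b)
          rw [Algebra.TensorProduct.tmul_mul_tmul, one_mul]
          rfl
    refine e.symm.injective ((key ?_).trans (map_zero e.symm).symm)
    refine e.injective ?_
    rw [hcomm, LinearEquiv.apply_symm_apply, hz, map_zero, map_zero]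

end Groth.L07.Spread
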