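import Groth.Agent.L07.Spread.Model
import Groth.Agent.L07.Spread.Regular
import Groth.Agent.L07.GeomReducedDescent
import Groth.Agent.S4585
import Groth.Agent.S1352
import Mathlib.RingTheory.IntegralClosure.IntegralRestrict
import Mathlib.FieldTheory.IsAlgClosed.AlgebraicClosure

/-!
Geometric irreducibility spreads from the generic point of an integral affine base (EGA IV 9.7.7).
-/

universe u

open TensorProduct

namespace Groth.L07.Spread

set_option autoImplicit false
set_option linter.style.haveILetI false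
set_option maxSynthPendingDepth 3

section Aux

variable {A Ω B : Type u} [CommRing A] [IsDomain A] [Field Ω] [Algebra A Ω] [CommRing B] [Algebra A B]

/-- Elements of a subalgebra tensor killed in the big tensor product are torsion. -/
theorem torsion_map_val (A' : Subalgebra A Ω) (z : A' ⊗[A] B)
    (h : Algebra.TensorProduct.map A'.val (AlgHom.id A B) z = 0) : ∃ a : A', a ≠ 0 ∧ a • z = 0 := by
  let e := TensorProduct.AlgebraTensorModule.cancelBaseChange A A' Ω Ω B
  have he : ∀ w : A' ⊗[A] B, e ((1 : Ω) ⊗ₜ[A'] w) = Algebra.TensorProduct.map A'.val (AlgHom.id A B) w := fun w => by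
    induction w using TensorProduct.induction_on with
    | zero => rw [TensorProduct.tmul_zero, map_zero, map_zero]
    | add x y hx hy => rw [TensorProduct.tmul_add, map_add, map_add, hx, hy]
    | tmul a b =>
      rw [TensorProduct.AlgebraTensorModule.cancelBaseChange_tmul, Algebra.TensorProduct.map_tmul]
      congr 1
      exact mul_one _
  exact torsion_of_tmul_eq_zero A' Ω Subtype.val_injective z
    (e.injective ((he z).trans (h.trans (map_zero e).symm)))

theorem mem_coeffs_range {σ : Type*} (A' : Subalgebra A Ω) (p : MvPolynomial σ Ω)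
    (h : (↑p.coeffs : Set Ω) ⊆ A') : ∃ q : MvPolynomial σ A', MvPolynomial.map (algebraMap A' Ω) q = p := by
  have : p ∈ Set.range (MvPolynomial.map (algebraMap A' Ω)) :=
    MvPolynomial.mem_range_map_iff_coeffs_subset.mpr (h.trans fun a ha => ⟨⟨a, ha⟩, rfl⟩)
  exact this

end Aux

/-- An element of the geometric generic fibre which is not nilpotent divides, up to nilpotents, an element of
the algebra which is not nilpotent. -/
theorem exists_mem_range_dvd {A B : Type u} [CommRing A] [IsDomain A] [CommRing B]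
    [IsDomain B] [Algebra A B] (hinj : Function.Injective (algebraMap A B))
    {Ω : Type u} [Field Ω] [Algebra A Ω] [Algebra.IsAlgebraic A Ω] (hΩ : Function.Injective (algebraMap A Ω))
    (hT : (nilradical (Ω ⊗[A] B)).IsPrime) (t : Ω ⊗[A] B) (ht : ¬ IsNilpotent t) :
    ∃ s ∈ Set.range (Algebra.TensorProduct.includeRight : B →ₐ[A] Ω ⊗[A] B), ¬ IsNilpotent s ∧
      ∃ c, IsNilpotent (s - t * c) := by
  let T := Ω ⊗[A] B
  let ιB : B →ₐ[A] T := Algebra.TensorProduct.includeRight
  have hιnil : ∀ b : B, IsNilpotent (ιB b) → b = 0 := fun b ⟨N, hN⟩ => by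
    rw [← map_pow] at hN
    obtain ⟨a, ha, ha'⟩ := torsion_of_tmul_eq_zero A Ω hΩ (b ^ N) hN
    rw [Algebra.smul_def, mul_eq_zero] at ha'
    exact eq_zero_of_pow_eq_zero (ha'.resolve_left ((map_ne_zero_iff _ hinj).mpr ha))
  letI : Algebra B T := ιB.toRingHom.toAlgebra
  obtain ⟨a, ha, hat⟩ : ∃ a : A, a ≠ 0 ∧ IsIntegral B (a • t) := by
    clear ht
    induction t using TensorProduct.induction_on with
    | zero => exact ⟨1, one_ne_zero, by rw [smul_zero]; exact isIntegral_zero⟩
    | add t₁ t₂ h₁ h₂ =>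
      obtain ⟨a₁, ha₁, h₁⟩ := h₁
      obtain ⟨a₂, ha₂, h₂⟩ := h₂
      refine ⟨a₁ * a₂, mul_ne_zero ha₁ ha₂, ?_⟩
      rw [smul_add]
      have e₁ : (a₁ * a₂) • t₁ = algebraMap B T (algebraMap A B a₂) * (a₁ • t₁) := by
        rw [show algebraMap B T (algebraMap A B a₂) = algebraMap A T a₂ from ιB.commutes a₂, ← Algebra.smul_def,
          smul_smul, mul_comm]
      have e₂ : (a₁ * a₂) • t₂ = algebraMap B T (algebraMap A B a₁) * (a₂ • t₂) := by
        rw [show algebraMap B T (algebraMap A B a₁) = algebraMap A T a₁ from ιB.commutes a₁, ← Algebra.smul_def,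
          smul_smul]
      rw [e₁, e₂]
      exact (isIntegral_algebraMap.mul h₁).add (isIntegral_algebraMap.mul h₂)
    | tmul o b =>
      obtain ⟨a, ha, hao⟩ := (Algebra.IsAlgebraic.isAlgebraic (R := A) o).exists_integral_multiple
      refine ⟨a, ha, ?_⟩
      have e : a • (o ⊗ₜ[A] b) = ((Algebra.TensorProduct.includeLeft : Ω →ₐ[A] T) (a • o)) * algebraMap B T b := by
        show _ = ((a • o) ⊗ₜ[A] (1 : B)) * ((1 : Ω) ⊗ₜ[A] b)
        rw [Algebra.TensorProduct.tmul_mul_tmul, mul_one, one_mul, TensorProduct.smul_tmul']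
      rw [e]
      refine IsIntegral.mul ?_ isIntegral_algebraMap
      haveI : IsScalarTower A B T := IsScalarTower.of_algebraMap_eq fun r => (ιB.commutes r).symm
      exact (hao.map (Algebra.TensorProduct.includeLeft : Ω →ₐ[A] T)).tower_top
  haveI := hT
  let D := T ⧸ nilradical T
  have hcast : IsIntegral B (Ideal.Quotient.mk (nilradical T) (a • t)) :=
    hat.map (Ideal.Quotient.mkₐ B (nilradical T))
  have hane : Ideal.Quotient.mk (nilradical T) (a • t) ≠ 0 := by
    rw [Algebra.smul_def, map_mul]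
    refine mul_ne_zero (fun h => ha (hinj ?_)) fun h => ht (mem_nilradical.mp (Ideal.Quotient.eq_zero_iff_mem.mp h))
    rw [map_zero]
    refine hιnil _ ?_
    rw [show ιB (algebraMap A B a) = algebraMap A T a from ιB.commutes a]
    exact mem_nilradical.mp (Ideal.Quotient.eq_zero_iff_mem.mp h)
  obtain ⟨d, hd, hd0⟩ := hcast.isAlgebraic.exists_nonzero_dvd (mem_nonZeroDivisors_of_ne_zero hane)
  obtain ⟨c, hc⟩ := hd0
  obtain ⟨c, rfl⟩ := Ideal.Quotient.mk_surjective c
  refine ⟨ιB d, ⟨d, rfl⟩, fun h => hd (hιnil d h), algebraMap A T a * c,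
    mem_nilradical.mp (Ideal.Quotient.eq.mp ?_)⟩
  rw [show Ideal.Quotient.mk (nilradical T) (ιB d) = algebraMap B D d from rfl, hc, ← map_mul, Algebra.smul_def]
  congr 1
  ring

/-- A dominant algebra of finite type has geometric points over a nonempty open of the base. -/
theorem exists_forall_nonempty_algHom {A E : Type u} [CommRing A] [IsDomain A] [CommRing E] [IsDomain E]
    [Algebra A E] [Algebra.FiniteType A E] (hAE : Function.Injective (algebraMap A E)) :
    ∃ a : A, a ≠ 0 ∧ ∀ (κ : Type u) [Field κ] [IsAlgClosed κ] [Algebra A κ],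
      algebraMap A κ a ≠ 0 → Nonempty (E →ₐ[A] κ) := by
  obtain ⟨a₀, ha₀, hrange⟩ := Groth.Agent.S4585.exists_basicOpen_subset_range (A := A) (B := E)
    ⟨⊥, Ideal.isPrime_bot⟩ ⟨⟨⊥, Ideal.isPrime_bot⟩, PrimeSpectrum.ext ((RingHom.injective_iff_ker_eq_bot _).mp hAE)⟩
  refine ⟨a₀, fun h => ha₀ (by rw [h]; exact Ideal.zero_mem _), fun κ _ _ _ hκ => ?_⟩
  obtain ⟨p, hp⟩ : ∃ p : PrimeSpectrum A, p.asIdeal = RingHom.ker (algebraMap A κ) :=
    ⟨⟨RingHom.ker (algebraMap A κ), RingHom.ker_isPrime _⟩, rfl⟩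
  obtain ⟨Q, hQ⟩ := hrange p bot_le (by rw [hp]; exact hκ)
  have := (PrimeSpectrum.nontrivial_iff_mem_rangeComap (S := E) p).mpr ⟨Q, hQ⟩
  let k := p.asIdeal.ResidueField
  letI : Algebra k κ := (Ideal.ResidueField.lift p.asIdeal (algebraMap A κ) hp.le (by
    intro r hr
    refine Ne.isUnit fun h0 => hr ?_
    rw [hp]; exact h0)).toAlgebra
  haveI : IsScalarTower A k κ := IsScalarTower.of_algebraMap_eq fun r =>
    (Ideal.ResidueField.lift_algebraMap p.asIdeal (algebraMap A κ) _ _ r).symm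
  haveI : Nontrivial (κ ⊗[k] (k ⊗[A] E)) :=
    Algebra.TensorProduct.nontrivial_of_algebraMap_injective_of_flat_right (R := k) κ (k ⊗[A] E) (algebraMap k κ).injective
  haveI : Nontrivial (κ ⊗[A] E) :=
    (Algebra.TensorProduct.cancelBaseChange A k κ κ E).toEquiv.symm.nontrivial
  obtain ⟨M, hM⟩ := Ideal.exists_maximal (κ ⊗[A] E)
  letI : Field ((κ ⊗[A] E) ⧸ M) := Ideal.Quotient.field M
  haveI : Module.Finite κ ((κ ⊗[A] E) ⧸ M) := finite_of_finite_type_of_isJacobsonRing κ _
  let χ : ((κ ⊗[A] E) ⧸ M) →ₐ[κ] κ := IsAlgClosed.lift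
  exact ⟨((χ.comp (Ideal.Quotient.mkₐ κ M)).restrictScalars A).comp Algebra.TensorProduct.includeRight⟩

/-- A point of the relations, up to nilpotents, of a reduced algebra. -/
theorem exists_hom_openRel {A' κ R' RR : Type u} [CommRing A'] [Field κ] [CommRing R'] [Algebra A' R'] [CommRing RR]
    [Algebra κ RR] [_root_.IsReduced RR] {n : ℕ} (f : A' →+* κ) (P' g' : MvPolynomial (Fin n) A')
    (mapR : R' →+* RR) (hmapA : ∀ a, mapR (algebraMap A' R' a) = algebraMap κ RR (f a))
    (b' : Option (Fin n) → R')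
    (haP : ∃ a : A', f a ≠ 0 ∧ IsNilpotent (algebraMap A' R' a * MvPolynomial.aeval b' (MvPolynomial.rename some P')))
    (hag : ∃ a : A', f a ≠ 0 ∧ IsNilpotent (algebraMap A' R' a *
      MvPolynomial.aeval b' (MvPolynomial.rename some g' * MvPolynomial.X none - 1))) :
    ∃ w : MvPolynomial (Option (Fin n)) κ ⧸ openRel (MvPolynomial.map f P') (MvPolynomial.map f g') →+* RR,
      (∀ o, w (Ideal.Quotient.mk _ (MvPolynomial.C o)) = algebraMap κ RR o) ∧
      ∀ q, w (Ideal.Quotient.mk _ (MvPolynomial.map f q)) = mapR (MvPolynomial.aeval b' q) := by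
  obtain ⟨aP, hθP, haP⟩ := haP
  obtain ⟨ag, hθg, hag⟩ := hag
  have hnil : ∀ (a : A') (z : R'), f a ≠ 0 → IsNilpotent (algebraMap A' R' a * z) → mapR z = 0 := fun a z ha hz => by
    have h := hz.map mapR
    rw [map_mul, hmapA] at h
    exact ((Ne.isUnit ha).map (algebraMap κ RR)).mul_right_eq_zero.mp h.eq_zero
  let w₀ : MvPolynomial (Option (Fin n)) κ →+* RR :=
    MvPolynomial.eval₂Hom (algebraMap κ RR) fun o => mapR (b' o)
  have hw₀ : ∀ q, w₀ (MvPolynomial.map f q) = mapR (MvPolynomial.aeval b' q) := fun q => by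
    refine RingHom.congr_fun (?_ : w₀.comp (MvPolynomial.map f) =
      mapR.comp (MvPolynomial.aeval b' : MvPolynomial (Option (Fin n)) A' →ₐ[A'] R').toRingHom) q
    refine MvPolynomial.ringHom_ext (fun a => ?_) fun o => ?_
    · simp [w₀, hmapA]
    · simp [w₀]
  have hJ : ∀ q ∈ openRel (MvPolynomial.map f P') (MvPolynomial.map f g'), w₀ q = 0 := by
    intro q hq
    refine RingHom.mem_ker.mp ((Ideal.span_le.mpr ?_ : openRel _ _ ≤ RingHom.ker w₀) hq)
    rintro q (rfl | rfl) <;> rw [SetLike.mem_coe, RingHom.mem_ker]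
    · rw [← MvPolynomial.map_rename, hw₀]
      exact hnil aP _ hθP haP
    · rw [show MvPolynomial.rename some (MvPolynomial.map f g') * MvPolynomial.X none - 1 =
          MvPolynomial.map f (MvPolynomial.rename some g' * MvPolynomial.X none - 1) by
        rw [map_sub, map_mul, MvPolynomial.map_rename, MvPolynomial.map_X, map_one], hw₀]
      exact hnil ag _ hθg hag
  exact ⟨Ideal.Quotient.lift _ w₀ hJ, fun o => MvPolynomial.eval₂Hom_C _ _ o, hw₀⟩

set_option maxHeartbeats 800000 in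
/-- The special fibre of a model, at a point of the coefficient ring where it specialises well, is irreducible. -/
theorem isPrime_nilradical_of_data {A B A' κ : Type u} [CommRing A] [CommRing B] [CommRing A'] [Field κ]
    [Algebra A B] [Algebra A A'] [Algebra A κ] {m n : ℕ}
    (φ : MvPolynomial (Fin m) A →ₐ[A] B) (hφ : Function.Surjective φ) (I : Ideal (MvPolynomial (Fin m) A))
    (G : Finset (MvPolynomial (Fin m) A)) (hG : Ideal.span (G : Set (MvPolynomial (Fin m) A)) = I) (c₀ : A)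
    (hc₀ : algebraMap A κ c₀ ≠ 0)
    (hItor : ∀ p ∈ RingHom.ker φ, ∃ l : ℕ, algebraMap A (MvPolynomial (Fin m) A) c₀ ^ l * p ∈ I)
    (θ' : A' →ₐ[A] κ) (hB : B) (ph : MvPolynomial (Fin m) A) (hph : φ ph = hB)
    [hnt : Nontrivial (κ ⊗[A] B)] (hregκ : ∀ z : κ ⊗[A] B, ((1 : κ) ⊗ₜ hB) * z = 0 → z = 0)
    (P' g' : MvPolynomial (Fin n) A') (N' : Fin m → MvPolynomial (Option (Fin n)) A')
    (NW' : MvPolynomial (Option (Fin n)) A')
    (b' : Option (Fin n) → Localization.Away ((1 : A') ⊗ₜ[A] hB))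
    (hPκ : Irreducible (MvPolynomial.map θ'.toRingHom P'))
    (haG : ∀ p ∈ G, ∃ a : A', θ' a ≠ 0 ∧ MvPolynomial.C a * MvPolynomial.aeval N' p ∈ openRel P' g')
    (haW : ∃ a : A', θ' a ≠ 0 ∧ MvPolynomial.C a * (MvPolynomial.aeval N' ph * NW' - 1) ∈ openRel P' g')
    (haP : ∃ a : A', θ' a ≠ 0 ∧ IsNilpotent (algebraMap A' _ a * MvPolynomial.aeval b' (MvPolynomial.rename some P')))
    (hag : ∃ a : A', θ' a ≠ 0 ∧ IsNilpotent (algebraMap A' _ a *
      MvPolynomial.aeval b' (MvPolynomial.rename some g' * MvPolynomial.X none - 1)))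
    (haN : ∀ i, ∃ a : A', θ' a ≠ 0 ∧ IsNilpotent (algebraMap A' _ a * (MvPolynomial.aeval b' (N' i) -
      algebraMap (A' ⊗[A] B) _ ((1 : A') ⊗ₜ[A] φ (MvPolynomial.X i))))) :
    (nilradical (κ ⊗[A] B)).IsPrime := by
  obtain ⟨aW, hθW, haW⟩ := haW
  obtain ⟨aP, hθP, haP⟩ := haP
  obtain ⟨ag, hθg, hag⟩ := hag
  choose aG hθG haG using haG
  choose aN hθN haN using haN
  let x : Fin m → B := fun i => φ (MvPolynomial.X i)
  have hφx : φ = MvPolynomial.aeval x := MvPolynomial.aeval_unique φ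
  let lift : MvPolynomial (Fin m) A →ₐ[A] MvPolynomial (Option (Fin n)) A' := MvPolynomial.aeval N'
  let h' : A' ⊗[A] B := (1 : A') ⊗ₜ hB
  let R' := Localization.Away h'
  -- the special fibre
  let Tκ := κ ⊗[A] B
  let hκ' : Tκ := (1 : κ) ⊗ₜ hB
  let R := Localization.Away hκ'
  let Pκ := MvPolynomial.map θ'.toRingHom P'
  let gκ := MvPolynomial.map θ'.toRingHom g'
  let J := openRel Pκ gκ
  have hJ : ∀ (a : A') (q : MvPolynomial (Option (Fin n)) A'), θ' a ≠ 0 → MvPolynomial.C a * q ∈ openRel P' g' →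
      MvPolynomial.map θ'.toRingHom q ∈ J := fun a q ha hq => by
    have h := Ideal.mem_map_of_mem (MvPolynomial.map θ'.toRingHom) hq
    rw [map_openRel, map_mul, MvPolynomial.map_C] at h
    have h' := J.mul_mem_left (MvPolynomial.C (θ' a)⁻¹) h
    rwa [← mul_assoc, ← map_mul, show (θ' a)⁻¹ * θ'.toRingHom a = 1 from inv_mul_cancel₀ ha, map_one, one_mul] at h'
  let D := MvPolynomial (Option (Fin n)) κ ⧸ J
  let liftκ : MvPolynomial (Fin m) A →ₐ[A] D :=
    ((Ideal.Quotient.mkₐ κ J).restrictScalars A).comp ((MvPolynomial.mapAlgHom θ').comp lift)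
  have hkill : ∀ p ∈ RingHom.ker φ, liftκ p = 0 := by
    intro p hp
    obtain ⟨l, hl⟩ := hItor p hp
    have hI : ∀ q ∈ I, liftκ q = 0 := by
      intro q hq
      refine RingHom.mem_ker.mp ((?_ : I ≤ RingHom.ker liftκ) hq)
      rw [← hG, Ideal.span_le]
      intro q hq
      exact Ideal.Quotient.eq_zero_iff_mem.mpr (hJ _ _ (hθG q hq) (haG q hq))
    have h := hI _ hl
    rw [map_mul, map_pow, AlgHom.commutes] at h
    refine (IsUnit.mul_right_eq_zero ?_).mp h
    rw [IsScalarTower.algebraMap_apply A κ D]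
    exact ((Ne.isUnit hc₀).map _).pow l
  let ψB : B →ₐ[A] D :=
    (Ideal.Quotient.liftₐ (RingHom.ker φ) liftκ hkill).comp (Ideal.quotientKerAlgEquivOfSurjective hφ).symm.toAlgHom
  have hψB : ∀ p, ψB (φ p) = liftκ p := fun p => by
    show Ideal.Quotient.liftₐ (RingHom.ker φ) liftκ hkill ((Ideal.quotientKerAlgEquivOfSurjective hφ).symm (φ p)) = _
    rw [← Ideal.quotientKerAlgEquivOfSurjective_mk hφ p, AlgEquiv.symm_apply_apply]
    rfl
  let ψT : Tκ →ₐ[κ] D := Algebra.TensorProduct.lift (Algebra.ofId κ D) ψB fun _ _ => Commute.all _ _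
  have hψT : ∀ bb : B, ψT ((1 : κ) ⊗ₜ bb) = ψB bb := fun bb => by
    show Algebra.TensorProduct.lift _ _ _ _ = _
    rw [Algebra.TensorProduct.lift_tmul, map_one, one_mul]
  have hunit : IsUnit (ψT.toRingHom hκ') := by
    refine IsUnit.of_mul_eq_one (Ideal.Quotient.mk J (MvPolynomial.map θ'.toRingHom NW')) ?_
    show ψT hκ' * _ = 1
    rw [hψT, ← hph, hψB, ← map_one (Ideal.Quotient.mk J)]
    show Ideal.Quotient.mk J _ * Ideal.Quotient.mk J _ = _
    rw [← map_mul, Ideal.Quotient.eq]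
    have h := hJ aW (lift ph * NW' - 1) hθW haW
    rwa [map_sub, map_mul, map_one] at h
  let ψR : R →+* D := IsLocalization.Away.lift hκ' hunit
  have hψR : ∀ t, ψR (algebraMap Tκ R t) = ψT t := fun t => IsLocalization.Away.lift_eq hκ' hunit t
  -- the inverse up to nilpotents
  let RR := R ⧸ nilradical R
  let mapB : A' ⊗[A] B →ₐ[A] Tκ := Algebra.TensorProduct.map θ' (AlgHom.id A B)
  have hu₂ : IsUnit (((Ideal.Quotient.mk (nilradical R)).comp ((algebraMap Tκ R).comp mapB.toRingHom)) h') := by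
    show IsUnit (Ideal.Quotient.mk (nilradical R) (algebraMap Tκ R (mapB h')))
    rw [show mapB h' = hκ' by show θ' 1 ⊗ₜ[A] hB = _; rw [map_one]]
    exact (IsLocalization.Away.algebraMap_isUnit (S := R) hκ').map _
  let mapR : R' →+* RR := IsLocalization.Away.lift h' hu₂
  have hmapR : ∀ w, mapR (algebraMap _ R' w) = Ideal.Quotient.mk _ (algebraMap Tκ R (mapB w)) := fun w =>
    IsLocalization.Away.lift_eq h' hu₂ w
  have hmapA : ∀ a : A', mapR (algebraMap A' R' a) = algebraMap κ RR (θ' a) := fun a => by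
    rw [IsScalarTower.algebraMap_apply A' (A' ⊗[A] B) R', hmapR, IsScalarTower.algebraMap_apply κ Tκ RR]
    rfl
  have hnil : ∀ (a : A') (z : R'), θ' a ≠ 0 → IsNilpotent (algebraMap A' R' a * z) → mapR z = 0 := fun a z ha hz => by
    have h := (hz.map mapR)
    rw [map_mul, hmapA] at h
    haveI : _root_.IsReduced RR := (Ideal.isRadical_iff_quotient_reduced _).mp (Ideal.radical_isRadical _)
    exact ((Ne.isUnit ha).map (algebraMap κ RR)).mul_right_eq_zero.mp h.eq_zero
  haveI : _root_.IsReduced RR := (Ideal.isRadical_iff_quotient_reduced _).mp (Ideal.radical_isRadical _)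
  obtain ⟨w, hwC, hwq⟩ := exists_hom_openRel θ'.toRingHom P' g' mapR hmapA b' ⟨aP, hθP, haP⟩ ⟨ag, hθg, hag⟩
  have hincl : ∀ i, mapR (MvPolynomial.aeval b' (N' i)) =
      mapR (algebraMap (A' ⊗[A] B) R' ((1 : A') ⊗ₜ[A] φ (MvPolynomial.X i))) := fun i => by
    rw [← sub_eq_zero, ← map_sub]
    exact hnil (aN i) _ (hθN i) (haN i)
  have hpoly : ∀ q, mapR (MvPolynomial.aeval b' (lift q)) =
      mapR (algebraMap (A' ⊗[A] B) R' ((1 : A') ⊗ₜ[A] φ q)) := by
    intro q
    induction q using MvPolynomial.induction_on with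
    | C r =>
      rw [show lift (MvPolynomial.C r) = MvPolynomial.C (algebraMap A A' r) from MvPolynomial.aeval_C N' r,
        MvPolynomial.aeval_C, show φ (MvPolynomial.C r) = algebraMap A B r from φ.commutes r,
        show (1 : A') ⊗ₜ[A] algebraMap A B r = algebraMap A' (A' ⊗[A] B) (algebraMap A A' r) from
          ((Algebra.TensorProduct.includeRight : B →ₐ[A] A' ⊗[A] B).commutes r),
        ← IsScalarTower.algebraMap_apply A' (A' ⊗[A] B) R']
    | add p q hp hq => rw [map_add, map_add, map_add, hp, hq, map_add, TensorProduct.tmul_add, map_add, map_add]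
    | mul_X p i hp =>
      rw [map_mul, map_mul, map_mul, hp, show lift (MvPolynomial.X i) = N' i from MvPolynomial.aeval_X N' i,
        hincl i, ← map_mul, ← map_mul, Algebra.TensorProduct.tmul_mul_tmul, mul_one, ← map_mul φ]
  have hone : ∀ bb : B, mapB ((1 : A') ⊗ₜ[A] bb) = (1 : κ) ⊗ₜ[A] bb := fun bb => by
    rw [Algebra.TensorProduct.map_tmul, map_one, AlgHom.id_apply]
  have hcomp : ∀ t : Tκ, w (ψT t) = Ideal.Quotient.mk (nilradical R) (algebraMap Tκ R t) := by
    intro t
    induction t using TensorProduct.induction_on with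
    | zero => rw [map_zero, map_zero, map_zero, map_zero]
    | add t₁ t₂ h₁ h₂ => rw [map_add, map_add, h₁, h₂, map_add, map_add]
    | tmul o bb =>
      obtain ⟨q, rfl⟩ := hφ bb
      have e : o ⊗ₜ[A] φ q = algebraMap κ Tκ o * ((1 : κ) ⊗ₜ φ q) := by
        show _ = (o ⊗ₜ[A] (1 : B)) * _
        rw [Algebra.TensorProduct.tmul_mul_tmul, mul_one, one_mul]
      have e1 : w (ψT ((1 : κ) ⊗ₜ φ q)) = Ideal.Quotient.mk (nilradical R) (algebraMap Tκ R ((1 : κ) ⊗ₜ φ q)) := by
        rw [hψT, hψB, ← hone (φ q), ← hmapR, ← hpoly]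
        exact hwq (lift q)
      have e2 : w (ψT (algebraMap κ Tκ o)) = Ideal.Quotient.mk (nilradical R) (algebraMap Tκ R (algebraMap κ Tκ o)) := by
        rw [AlgHom.commutes, show algebraMap κ D o = Ideal.Quotient.mk J (MvPolynomial.C o) from rfl]
        exact (hwC o).trans (by rw [IsScalarTower.algebraMap_apply κ Tκ RR, IsScalarTower.algebraMap_apply Tκ R RR]; rfl)
      rw [e, map_mul ψT, map_mul w, map_mul (algebraMap Tκ R), map_mul (Ideal.Quotient.mk _), e1, e2]
  have hwψ : w.comp ψR = Ideal.Quotient.mk (nilradical R) :=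
    IsLocalization.ringHom_ext (Submonoid.powers hκ') (RingHom.ext fun t => by
      show w (ψR (algebraMap Tκ R t)) = _
      rw [hψR]; exact hcomp t)
  have hker : ∀ r : R, ψR r = 0 → IsNilpotent r := fun r hr => by
    refine mem_nilradical.mp (Ideal.Quotient.eq_zero_iff_mem.mp ?_)
    rw [← hwψ, RingHom.comp_apply, hr, map_zero]
  have hpow : ∀ (M : ℕ) (z : Tκ), hκ' ^ M * z = 0 → z = 0 := by
    intro M
    induction M with
    | zero => intro z hz; simpa using hz
    | succ M ih => intro z hz; exact hregκ z (ih _ (by rw [← hz, pow_succ, mul_assoc]))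
  have hTR : ∀ t : Tκ, IsNilpotent (algebraMap Tκ R t) → IsNilpotent t := fun t ⟨M, hM⟩ => by
    rw [← map_pow] at hM
    obtain ⟨⟨_, j, rfl⟩, hj⟩ := (IsLocalization.map_eq_zero_iff (Submonoid.powers hκ') R _).mp hM
    exact ⟨M, hpow j _ hj⟩
  have hDtop : J ≠ ⊤ := fun h => by
    haveI : Subsingleton D := Ideal.Quotient.subsingleton_iff.mpr h
    exact not_isNilpotent_one (hTR 1 (hker _ (Subsingleton.elim _ _)))
  haveI : J.IsPrime := openRel_isPrime Pκ gκ hPκ fun hdvd => hDtop <| by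
    rw [Ideal.eq_top_iff_one]
    obtain ⟨r, hr⟩ := hdvd
    have h1 : MvPolynomial.rename some gκ * MvPolynomial.X none ∈ J := by
      rw [hr, map_mul, mul_assoc]
      exact Ideal.mul_mem_right _ _ (Ideal.subset_span (Or.inl rfl))
    have h2 := J.sub_mem h1 (Ideal.subset_span (Or.inr rfl) : MvPolynomial.rename some gκ * MvPolynomial.X none - 1 ∈ J)
    rwa [sub_sub_cancel] at h2
  refine ⟨fun htop => not_isNilpotent_one (mem_nilradical.mp (htop ▸ Submodule.mem_top : (1 : Tκ) ∈ nilradical Tκ)),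
    fun {t₁ t₂} ht => ?_⟩
  have h := (mem_nilradical.mp ht).map (ψR.comp (algebraMap Tκ R))
  rw [map_mul] at h
  rcases mul_eq_zero.mp h.eq_zero with h' | h'
  · exact Or.inl (mem_nilradical.mpr (hTR _ (hker _ h')))
  · exact Or.inr (mem_nilradical.mpr (hTR _ (hker _ h')))

/-- The comparison of the localizations of the models over a coefficient ring and over the big field. -/
theorem exists_localization_map {A Ω B : Type u} [CommRing A] [IsDomain A] [Field Ω] [Algebra A Ω] [CommRing B]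
    [Algebra A B] (A' : Subalgebra A Ω) (hB : B) :
    ∃ iR : Localization.Away ((1 : A') ⊗ₜ[A] hB) →ₐ[A'] Localization.Away ((1 : Ω) ⊗ₜ[A] hB),
      (∀ w, iR (algebraMap (A' ⊗[A] B) _ w) =
        algebraMap (Ω ⊗[A] B) _ (Algebra.TensorProduct.map A'.val (AlgHom.id A B) w)) ∧
      ∀ z, IsNilpotent (iR z) → ∃ a : A', a ≠ 0 ∧
        IsNilpotent (algebraMap A' (Localization.Away ((1 : A') ⊗ₜ[A] hB)) a * z) := by
  let T := Ω ⊗[A] B
  let incl : A' ⊗[A] B →ₐ[A] T := Algebra.TensorProduct.map A'.val (AlgHom.id A B)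
  let h' : A' ⊗[A] B := (1 : A') ⊗ₜ hB
  let hT' : T := (1 : Ω) ⊗ₜ hB
  have hinclh : incl h' = hT' := rfl
  let R' := Localization.Away h'
  have hu₁ : IsUnit (((algebraMap T (Localization.Away hT')).comp incl.toRingHom) h') := by
    show IsUnit (algebraMap T (Localization.Away hT') (incl h'))
    rw [hinclh]; exact IsLocalization.Away.algebraMap_isUnit _
  let iR : R' →+* Localization.Away hT' := IsLocalization.Away.lift h' hu₁
  have hiR : ∀ w, iR (algebraMap (A' ⊗[A] B) R' w) = algebraMap T (Localization.Away hT') (incl w) := fun w =>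
    IsLocalization.Away.lift_eq h' hu₁ w
  have hiRA : ∀ a : A', iR (algebraMap A' R' a) = algebraMap A' (Localization.Away hT') a := fun a => by
    rw [IsScalarTower.algebraMap_apply A' (A' ⊗[A] B) R', hiR]
    show algebraMap T _ (incl (a ⊗ₜ 1)) = algebraMap Ω (Localization.Away hT') (a : Ω)
    rw [IsScalarTower.algebraMap_apply Ω T (Localization.Away hT')]
    rfl
  let iA : R' →ₐ[A'] Localization.Away hT' := ⟨iR, hiRA⟩
  refine ⟨iA, hiR, fun z hz => ?_⟩
  revert z
  show ∀ z : R', IsNilpotent (iR z) → ∃ a : A', a ≠ 0 ∧ IsNilpotent (algebraMap A' R' a * z)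
  intro z ⟨M, hz⟩
  obtain ⟨w, ⟨_, l, rfl⟩, rfl⟩ := IsLocalization.exists_mk'_eq (Submonoid.powers h') z
  have h1 : algebraMap T (Localization.Away hT') (incl (w ^ M)) = 0 := by
    have e : algebraMap (A' ⊗[A] B) R' (w ^ M) = IsLocalization.mk' R' w (⟨_, l, rfl⟩ : Submonoid.powers h') ^ M *
        algebraMap (A' ⊗[A] B) R' (h' ^ l) ^ M := by
      rw [← mul_pow, IsLocalization.mk'_spec R' w (⟨_, l, rfl⟩ : Submonoid.powers h'), map_pow]
    rw [← hiR, e, map_mul, map_pow iR, hz, zero_mul]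
  obtain ⟨⟨_, j, rfl⟩, hj⟩ := (IsLocalization.map_eq_zero_iff (Submonoid.powers hT') _ _).mp h1
  have h2 : incl (h' ^ j * w ^ M) = 0 := by rw [map_mul, map_pow, hinclh]; exact hj
  obtain ⟨a, ha, ha'⟩ := torsion_map_val A' _ h2
  refine ⟨a, ha, M + 1, ?_⟩
  have h3 : algebraMap A' (A' ⊗[A] B) a * (h' ^ j * w ^ M) = 0 := by rw [← Algebra.smul_def]; exact ha'
  rw [IsScalarTower.algebraMap_apply A' (A' ⊗[A] B) R', ← IsLocalization.mk'_one (M := Submonoid.powers h') R'
    (algebraMap A' (A' ⊗[A] B) a), ← IsLocalization.mk'_mul, ← IsLocalization.mk'_pow, IsLocalization.mk'_eq_zero_iff]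
  refine ⟨⟨_, j, rfl⟩, ?_⟩
  show h' ^ j * (algebraMap A' _ a * w) ^ (M + 1) = 0
  rw [mul_pow, pow_succ, pow_succ]
  linear_combination (algebraMap A' (A' ⊗[A] B) a) ^ M * w * h3

/-- Absolute irreducibility of a polynomial spreads. -/
theorem exists_irreducible_spread {A Ω : Type u} [CommRing A] [IsDomain A] [Field Ω] [IsAlgClosed Ω] [Algebra A Ω]
    [Algebra.IsAlgebraic A Ω] (hΩ : Function.Injective (algebraMap A Ω)) (A' : Subalgebra A Ω) {n : ℕ}
    (P' : MvPolynomial (Fin n) A') (hP : Irreducible (MvPolynomial.map (algebraMap A' Ω) P')) :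
    ∃ f : A', f ≠ 0 ∧ ∀ (κ : Type u) [Field κ] [IsAlgClosed κ] (θ : A' →+* κ), θ f ≠ 0 →
      Irreducible (MvPolynomial.map θ P') := by
  let K' := FractionRing A'
  letI : Algebra K' Ω := (IsFractionRing.lift (A := A') (K := K') (g := algebraMap A' Ω) Subtype.val_injective).toAlgebra
  haveI : IsScalarTower A' K' Ω := IsScalarTower.of_algebraMap_eq fun a =>
    (IsFractionRing.lift_algebraMap (Subtype.val_injective) a).symm
  haveI : Algebra.IsAlgebraic A' Ω :=
    Algebra.IsAlgebraic.extendScalars (R := A) (fun a b hab => hΩ (congrArg Subtype.val hab :))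
  haveI : Algebra.IsAlgebraic K' Ω :=
    Algebra.IsAlgebraic.extendScalars (R := A') (IsFractionRing.injective A' K')
  haveI : IsAlgClosure K' Ω := ⟨inferInstance, inferInstance⟩
  have hPirr : Irreducible (MvPolynomial.map (algebraMap A' (AlgebraicClosure K')) P') := by
    let ε := IsAlgClosure.equiv K' Ω (AlgebraicClosure K')
    have e : algebraMap A' (AlgebraicClosure K') = ε.toRingEquiv.toRingHom.comp (algebraMap A' Ω) :=
      RingHom.ext fun a => by
        show _ = ε (algebraMap A' Ω a)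
        rw [IsScalarTower.algebraMap_apply A' K' Ω, ε.commutes, ← IsScalarTower.algebraMap_apply]
    rw [e, ← MvPolynomial.map_map]
    exact (MulEquiv.irreducible_iff (MvPolynomial.mapEquiv (Fin n) ε.toRingEquiv).toMulEquiv).mpr hP
  obtain ⟨f₁, hf₁, hf₁P⟩ := Groth.Agent.S1352.result P' hPirr
  refine ⟨f₁, hf₁, fun κ _ _ θ hθ => ?_⟩
  have := hf₁P κ (IsLocalization.Away.lift (S := Localization.Away f₁) (g := θ) f₁ (Ne.isUnit hθ))
  rwa [IsLocalization.Away.lift_comp] at this

/-- The relations of an algebra of finite type over a domain, up to torsion. -/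
theorem exists_relations {A B : Type u} [CommRing A] [IsDomain A] [CommRing B] [Algebra A B] {m : ℕ}
    (φ : MvPolynomial (Fin m) A →ₐ[A] B) (hφ : Function.Surjective φ) :
    ∃ c : A, c ≠ 0 ∧ ∃ G : Finset (MvPolynomial (Fin m) A), (∀ p ∈ G, φ p = 0) ∧ ∀ p ∈ RingHom.ker φ,
      ∃ l : ℕ, algebraMap A (MvPolynomial (Fin m) A) c ^ l * p ∈ Ideal.span (G : Set (MvPolynomial (Fin m) A)) := by
  letI : Algebra (MvPolynomial (Fin m) A) B := φ.toRingHom.toAlgebra
  haveI : IsScalarTower A (MvPolynomial (Fin m) A) B := IsScalarTower.of_algebraMap_eq fun r => (φ.commutes r).symm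
  haveI : Module.Finite (MvPolynomial (Fin m) A) B := Module.Finite.of_surjective (Algebra.linearMap _ B) hφ
  obtain ⟨c, hc, -, h⟩ := Groth.L20.GF.exists_free_and_nearlyFP (R := A) (S := MvPolynomial (Fin m) A) B
  obtain ⟨I, ⟨G, rfl⟩, hIle, hItor⟩ := h.exists_fg_ideal hφ
  exact ⟨c, hc, G, fun p hp => hIle (Ideal.subset_span hp), hItor⟩

set_option maxHeartbeats 800000 in
set_option synthInstance.maxHeartbeats 400000 in
open scoped Classical in
/-- For an integral algebra of finite type over a domain with geometrically irreducible generic fibre the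
geometric fibres over some nonempty open of the base are irreducible. -/
theorem exists_forall_isPrime_nilradical_of_isDomain {A B : Type u} [CommRing A] [IsDomain A] [CommRing B]
    [IsDomain B] [Algebra A B] [Algebra.FiniteType A B] (hinj : Function.Injective (algebraMap A B))
    (Ω : Type u) [Field Ω] [IsAlgClosed Ω] [Algebra A Ω] [Algebra.IsAlgebraic A Ω]
    (hΩ : Function.Injective (algebraMap A Ω)) (hT : (nilradical (Ω ⊗[A] B)).IsPrime) :
    ∃ a : A, a ≠ 0 ∧ ∀ (κ : Type u) [Field κ] [IsAlgClosed κ] [Algebra A κ],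
      algebraMap A κ a ≠ 0 → (nilradical (κ ⊗[A] B)).IsPrime := by
  obtain ⟨m, φ, hφ⟩ := Algebra.FiniteType.iff_quotient_mvPolynomial''.mp (inferInstance : Algebra.FiniteType A B)
  let x : Fin m → B := fun i => φ (MvPolynomial.X i)
  have hφx : φ = MvPolynomial.aeval x := MvPolynomial.aeval_unique φ
  let T := Ω ⊗[A] B
  let ιB : B →ₐ[A] T := Algebra.TensorProduct.includeRight
  let xT : Fin m → T := fun i => ιB (x i)
  have hxT : ∀ p : MvPolynomial (Fin m) A,
      MvPolynomial.aeval xT (MvPolynomial.map (algebraMap A Ω) p) = ιB (φ p) := fun p => by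
    rw [MvPolynomial.aeval_map_algebraMap, hφx, ← AlgHom.comp_apply ιB, MvPolynomial.comp_aeval]
  have hsurj : Function.Surjective (MvPolynomial.aeval xT : MvPolynomial (Fin m) Ω →ₐ[Ω] T) := fun t => by
    induction t using TensorProduct.induction_on with
    | zero => exact ⟨0, map_zero _⟩
    | add t₁ t₂ h₁ h₂ =>
      obtain ⟨p₁, rfl⟩ := h₁
      obtain ⟨p₂, rfl⟩ := h₂
      exact ⟨p₁ + p₂, map_add _ _ _⟩
    | tmul o b =>
      obtain ⟨p, rfl⟩ := hφ b
      refine ⟨MvPolynomial.C o * MvPolynomial.map (algebraMap A Ω) p, ?_⟩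
      rw [map_mul, hxT, MvPolynomial.aeval_C]
      show (o ⊗ₜ[A] (1 : B)) * ((1 : Ω) ⊗ₜ[A] φ p) = _
      rw [Algebra.TensorProduct.tmul_mul_tmul, mul_one, one_mul]
  have hιnil : ∀ b : B, IsNilpotent (ιB b) → b = 0 := fun b ⟨N, hN⟩ => by
    rw [← map_pow] at hN
    obtain ⟨a, ha, ha'⟩ := torsion_of_tmul_eq_zero A Ω hΩ (b ^ N) hN
    rw [Algebra.smul_def, mul_eq_zero] at ha'
    exact eq_zero_of_pow_eq_zero (ha'.resolve_left ((map_ne_zero_iff _ hinj).mpr ha))
  obtain ⟨_, ⟨hB, rfl⟩, hh, n, P, g, N, NW, b, hP, hN, hNW, hbP, hbg, hbN⟩ :=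
    exists_model Ω T xT hsurj hT (Set.range ιB) (exists_mem_range_dvd hinj hΩ hT)
  have hB0 : hB ≠ 0 := fun h => hh (by rw [h, map_zero]; exact IsNilpotent.zero)
  obtain ⟨ph, hph⟩ := hφ hB
  -- the finitely many coefficients
  choose β eb hβ using fun o => IsLocalization.exists_mk'_eq (Submonoid.powers (ιB hB)) (b o)
  obtain ⟨A₂, hA₂, hstage⟩ := Groth.L07.FlatGeomReduced.exists_stage_mem (A₁ := A) (Finset.univ.image β)
  let co : Finset Ω := P.coeffs ∪ g.coeffs ∪ NW.coeffs ∪ Finset.univ.biUnion fun i => (N i).coeffs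
  let A' : Subalgebra A Ω := A₂ ⊔ Algebra.adjoin A (co : Set Ω)
  haveI : Algebra.FiniteType A A' := (Subalgebra.fg_iff_finiteType A').mp (hA₂.sup ⟨co, rfl⟩)
  have hco : ∀ (σ : Type) (p : MvPolynomial σ Ω), p.coeffs ⊆ co →
      ∃ q : MvPolynomial σ A', MvPolynomial.map (algebraMap A' Ω) q = p := fun σ p hp =>
    mem_coeffs_range A' p fun a ha => (le_sup_right : _ ≤ A') (Algebra.subset_adjoin (hp ha))
  obtain ⟨P', hP'⟩ := hco _ P (by intro a ha; simp [co, ha])
  obtain ⟨g', hg'⟩ := hco _ g (by intro a ha; simp [co, ha])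
  obtain ⟨NW', hNW'⟩ := hco _ NW (by intro a ha; simp [co, ha])
  choose N' hN' using fun i => hco _ (N i) (by
    intro a ha
    simp only [co, Finset.mem_union, Finset.mem_biUnion, Finset.mem_univ, true_and]
    exact Or.inr ⟨i, ha⟩)
  -- the model over A'
  let incl : A' ⊗[A] B →ₐ[A] T := Algebra.TensorProduct.map A'.val (AlgHom.id A B)
  let h' : A' ⊗[A] B := (1 : A') ⊗ₜ hB
  have hinclh : incl h' = ιB hB := rfl
  choose β' hβ' using fun o => show ∃ w, incl w = β o by
    obtain ⟨w, hw⟩ := hstage (β o) (Finset.mem_image_of_mem β (Finset.mem_univ o))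
    refine ⟨Algebra.TensorProduct.map (Subalgebra.inclusion (le_sup_left : A₂ ≤ A')) (AlgHom.id A B) w, ?_⟩
    rw [← hw, ← AlgHom.comp_apply, ← Algebra.TensorProduct.map_comp]
    rfl
  let R' := Localization.Away h'
  obtain ⟨iA, hiR, htorR⟩ : ∃ iA : R' →ₐ[A'] Localization.Away (ιB hB),
      (∀ w, iA (algebraMap (A' ⊗[A] B) R' w) = algebraMap T (Localization.Away (ιB hB)) (incl w)) ∧
      ∀ z, IsNilpotent (iA z) → ∃ a : A', a ≠ 0 ∧ IsNilpotent (algebraMap A' R' a * z) :=
    exists_localization_map A' hB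
  choose k hk using fun o => (eb o).2
  let b' : Option (Fin n) → R' := fun o =>
    IsLocalization.mk' R' (β' o) (⟨h' ^ k o, k o, rfl⟩ : Submonoid.powers h')
  have hb' : ∀ o, iA (b' o) = b o := fun o => by
    rw [← hβ o]
    refine (IsLocalization.eq_mk'_iff_mul_eq).mpr ?_
    have e : algebraMap T (Localization.Away (ιB hB)) ((eb o : Submonoid.powers (ιB hB)) : T) =
        iA (algebraMap _ R' (h' ^ k o)) := by
      rw [hiR, map_pow incl, hinclh]
      exact congrArg (algebraMap T _) (hk o).symm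
    rw [e, ← map_mul, IsLocalization.mk'_spec R' (β' o) (⟨h' ^ k o, k o, rfl⟩ : Submonoid.powers h'), hiR, hβ']
  have heR : ∀ q : MvPolynomial (Option (Fin n)) A', iA (MvPolynomial.aeval b' q) =
      MvPolynomial.aeval b (MvPolynomial.map (algebraMap A' Ω) q) := fun q => by
    show iA (MvPolynomial.aeval b' q) = _
    rw [MvPolynomial.aeval_map_algebraMap, ← AlgHom.comp_apply, MvPolynomial.comp_aeval]
    exact congrArg (fun v => MvPolynomial.aeval v q) (funext hb')
  have htorC : ∀ q : MvPolynomial (Option (Fin n)) A', MvPolynomial.map (algebraMap A' Ω) q ∈ openRel P g →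
      ∃ a : A', a ≠ 0 ∧ MvPolynomial.C a * q ∈ openRel P' g' := fun q hq =>
    torsion_openRel Subtype.val_injective P' g' q (by rw [hP', hg']; exact hq)
  -- the relations
  obtain ⟨c₀, hc₀, G, hGφ, hItor⟩ := exists_relations φ hφ
  let lift : MvPolynomial (Fin m) A →ₐ[A] MvPolynomial (Option (Fin n)) A' := MvPolynomial.aeval N'
  have hlift : ∀ p, MvPolynomial.map (algebraMap A' Ω) (lift p) =
      MvPolynomial.aeval N (MvPolynomial.map (algebraMap A Ω) p) := fun p => by
    rw [MvPolynomial.aeval_map_algebraMap]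
    show (MvPolynomial.mapAlgHom (IsScalarTower.toAlgHom A A' Ω)) (lift p) = _
    rw [← AlgHom.comp_apply, MvPolynomial.comp_aeval]
    exact congrArg (fun v => MvPolynomial.aeval v p) (funext hN')
  choose aG haG0 haG using fun p : G => htorC (lift p.1) (by
    rw [hlift]; refine hN _ ?_
    rw [hxT, hGφ p.1 p.2, map_zero])
  obtain ⟨aW, haW0, haW⟩ := htorC (lift ph * NW' - 1) (by
    rw [map_sub, map_mul, hlift, hNW', map_one]; exact hNW _ (by rw [hxT, hph]))
  obtain ⟨aP, haP0, haP⟩ := htorR (MvPolynomial.aeval b' (MvPolynomial.rename some P')) (by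
    rw [heR, MvPolynomial.map_rename, hP']; exact hbP)
  obtain ⟨ag, hag0, hag⟩ := htorR (MvPolynomial.aeval b' (MvPolynomial.rename some g' * MvPolynomial.X none - 1)) (by
    rw [heR, map_sub, map_mul, MvPolynomial.map_rename, hg', MvPolynomial.map_X, map_one]; exact hbg)
  choose aN haN0 haN using fun i => htorR
    (MvPolynomial.aeval b' (N' i) - algebraMap (A' ⊗[A] B) R' ((1 : A') ⊗ₜ x i)) (by
      rw [map_sub, heR, hN', hiR]; exact hbN i)
  -- irreducibility of the polynomial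
  obtain ⟨f₁, hf₁, hf₁P⟩ := exists_irreducible_spread hΩ A' P' (by rw [hP']; exact hP)
  -- the open of the base
  obtain ⟨c₁, hc₁, hreg⟩ := exists_regular hinj hB hB0
  let astar : A' := f₁ * aW * aP * ag * (∏ p : G, aG p) * ∏ i, aN i
  have hastar : astar ≠ 0 := mul_ne_zero (mul_ne_zero (mul_ne_zero (mul_ne_zero (mul_ne_zero hf₁ haW0) haP0) hag0)
    (Finset.prod_ne_zero_iff.mpr fun p _ => haG0 p)) (Finset.prod_ne_zero_iff.mpr fun i _ => haN0 i)
  let E := Localization.Away astar
  haveI : IsDomain E := IsLocalization.isDomain_of_le_nonZeroDivisors (M := Submonoid.powers astar) (S := E)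
    (powers_le_nonZeroDivisors_of_noZeroDivisors hastar)
  haveI : Algebra.FiniteType A' E := IsLocalization.finiteType_of_monoid_fg (Submonoid.powers astar) E
  haveI : Algebra.FiniteType A E := Algebra.FiniteType.trans (R := A) (S := A') inferInstance inferInstance
  have hAE : Function.Injective (algebraMap A E) := by
    rw [IsScalarTower.algebraMap_eq A A' E]
    exact (IsLocalization.injective E (powers_le_nonZeroDivisors_of_noZeroDivisors hastar)).comp
      (fun a b hab => hΩ (congrArg Subtype.val hab :))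
  obtain ⟨a₀, ha₀, hpt⟩ := exists_forall_nonempty_algHom (A := A) (E := E) hAE
  refine ⟨a₀ * (c₀ * c₁), mul_ne_zero ha₀ (mul_ne_zero hc₀ hc₁), fun κ _ _ _ hκ => ?_⟩
  simp only [map_mul, ne_eq, mul_eq_zero, not_or] at hκ
  obtain ⟨θ⟩ := hpt κ hκ.1
  let θ' : A' →ₐ[A] κ := θ.comp (IsScalarTower.toAlgHom A A' E)
  have hθ : θ' astar ≠ 0 := by
    show θ (algebraMap A' E astar) ≠ 0
    exact ((IsLocalization.Away.algebraMap_isUnit (S := E) astar).map θ).ne_zero
  simp only [astar, map_mul, map_prod, ne_eq, mul_eq_zero, not_or, Finset.prod_eq_zero_iff, not_exists, not_and,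
    Finset.mem_univ, forall_const] at hθ
  obtain ⟨⟨⟨⟨⟨hθf, hθW⟩, hθP⟩, hθg⟩, hθG⟩, hθN⟩ := hθ
  obtain ⟨hnt, hregκ⟩ := hreg κ hκ.2.2
  haveI := hnt
  refine isPrime_nilradical_of_data φ hφ _ G rfl c₀ hκ.2.1 hItor θ' hB ph hph hregκ P' g' N' NW' b' ?_
    (fun p hp => ⟨aG ⟨p, hp⟩, hθG ⟨p, hp⟩, haG ⟨p, hp⟩⟩) ⟨aW, hθW, haW⟩ ⟨aP, hθP, haP⟩ ⟨ag, hθg, hag⟩
    (fun i => ⟨aN i, hθN i, haN i⟩)
  exact hf₁P κ θ'.toRingHom hθf

end Groth.L07.Spread
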