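import Groth.Agent.L07.Spread.Base
import Mathlib.RingTheory.Localization.AtPrime.Basic

/-!
Closed subsets containing the generic fibre contain the fibres over a nonempty open of the base.
-/

universe u

open CategoryTheory CategoryTheory.Limits AlgebraicGeometry

namespace Groth.L07.Spread

set_option autoImplicit false
set_option linter.style.haveILetI false
set_option maxSynthPendingDepth 3
set_option backward.isDefEq.respectTransparency.types false
set_option backward.isDefEq.respectTransparency false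

/-- An ideal in all the primes over the generic point is in all the primes over some nonempty open. -/
theorem exists_forall_le_of_generic {A B : Type u} [CommRing A] [IsDomain A] [CommRing B] [Algebra A B]
    [Algebra.FiniteType A B] (I : Ideal B)
    (h : ∀ Q : Ideal B, Q.IsPrime → Q.comap (algebraMap A B) = ⊥ → I ≤ Q) :
    ∃ a : A, a ≠ 0 ∧ ∀ Q : Ideal B, Q.IsPrime → algebraMap A B a ∉ Q → I ≤ Q := by
  classical
  obtain ⟨m, φ, hφ⟩ := Algebra.FiniteType.iff_quotient_mvPolynomial''.mp (inferInstance : Algebra.FiniteType A B)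
  obtain ⟨c, hc, G, hG, hGtor⟩ := exists_relations ((Ideal.Quotient.mkₐ A I).comp φ) (Ideal.Quotient.mk_surjective.comp hφ)
  have hq : ∀ q : G, ∃ a : A, a ≠ 0 ∧ ∃ N : ℕ, algebraMap A B a * φ q.1 ^ N = 0 := fun q => by
    by_contra hne
    push Not at hne
    let M : Submonoid B :=
      ((nonZeroDivisors A).map (algebraMap A B : A →* B)) ⊔ Submonoid.powers (φ q.1)
    have h0 : (0 : B) ∉ M := fun h0 => by
      obtain ⟨_, ⟨a, ha, rfl⟩, _, ⟨N, rfl⟩, he⟩ := Submonoid.mem_sup.mp h0
      exact hne a (nonZeroDivisors.ne_zero ha) N he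
    obtain ⟨Q, hQ, -, hdisj⟩ := Ideal.exists_le_prime_disjoint (⊥ : Ideal B) M
      (Set.disjoint_left.mpr fun x hx hxM => h0 ((Ideal.mem_bot.mp hx) ▸ hxM))
    refine Set.disjoint_right.mp hdisj (le_sup_right (a := (nonZeroDivisors A).map (algebraMap A B : A →* B))
      (Submonoid.mem_powers (φ q.1))) (h Q hQ ?_ ((Ideal.Quotient.eq_zero_iff_mem).mp (hG q.1 q.2)))
    refine eq_bot_iff.mpr fun a ha => ?_
    by_contra hne'
    exact Set.disjoint_right.mp hdisj (le_sup_left (b := Submonoid.powers (φ q.1))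
      ⟨a, mem_nonZeroDivisors_of_ne_zero hne', rfl⟩) ha
  choose aq haq0 N hN using hq
  refine ⟨c * ∏ q : G, aq q, mul_ne_zero hc (Finset.prod_ne_zero_iff.mpr fun q _ => haq0 q), fun Q hQ ha b hb => ?_⟩
  rw [map_mul, map_prod] at ha
  obtain ⟨r, rfl⟩ := hφ b
  obtain ⟨l, hl⟩ := hGtor r (Ideal.Quotient.eq_zero_iff_mem.mpr hb)
  have hspan : Ideal.span (G : Set (MvPolynomial (Fin m) A)) ≤ Q.comap φ := Ideal.span_le.mpr fun q hq => by
    have := hN ⟨q, hq⟩ ▸ Q.zero_mem
    rcases hQ.mem_or_mem this with h1 | h1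
    · exact absurd (Ideal.mul_mem_left Q _ (Ideal.mem_of_dvd _ (Finset.dvd_prod_of_mem _ (Finset.mem_univ ⟨q, hq⟩)) h1)) ha
    · exact hQ.mem_of_pow_mem _ h1
  have := hspan hl
  rw [Ideal.mem_comap, map_mul, map_pow, AlgHom.commutes] at this
  exact (hQ.mem_or_mem this).resolve_left fun h1 => ha (Ideal.mul_mem_right _ _ (hQ.mem_of_pow_mem _ h1))

/-- A closed subset containing the generic fibre of a scheme of finite type over a domain contains the fibres
over a nonempty open of the base. -/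
theorem exists_forall_mem_of_generic {A : Type u} [CommRing A] [IsDomain A] {X : Scheme.{u}}
    (h : X ⟶ Spec (CommRingCat.of A)) [LocallyOfFiniteType h] [QuasiCompact h] (F : Set X) (hF : IsClosed F)
    (hgen : ∀ x, (h x).asIdeal = ⊥ → x ∈ F) :
    ∃ a : A, a ≠ 0 ∧ ∀ x, a ∉ (h x).asIdeal → x ∈ F := by
  classical
  haveI : CompactSpace X := QuasiCompact.compactSpace_of_compactSpace h
  obtain ⟨s, hs⟩ := isCompact_univ.elim_finite_subcover (fun U : X.affineOpens => (U : Set X)) (fun U => U.1.isOpen)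
    fun x _ => by
      obtain ⟨_, ⟨U, hU, rfl⟩, hxU, -⟩ := X.isBasis_affineOpens.exists_subset_of_mem_open (Set.mem_univ x) isOpen_univ
      exact Set.mem_iUnion.mpr ⟨⟨U, hU⟩, hxU⟩
  have hpiece : ∀ U : X.affineOpens, ∃ a : A, a ≠ 0 ∧ ∀ x ∈ (U : X.Opens), a ∉ (h x).asIdeal → x ∈ F := by
    intro U
    obtain ⟨φ, hφ⟩ := Spec.map_surjective (U.2.fromSpec ≫ h)
    letI : Algebra A Γ(X, U) := φ.hom.toAlgebra
    have hj : U.2.fromSpec ≫ h = specAlg A Γ(X, U) := hφ.symm
    haveI : Algebra.FiniteType A Γ(X, U) := by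
      have : LocallyOfFiniteType (Spec.map φ) := by rw [hφ]; infer_instance
      exact HasRingHomProperty.Spec_iff.mp this
    obtain ⟨I, hI⟩ := (PrimeSpectrum.isClosed_iff_zeroLocus_ideal _).mp (hF.preimage U.2.fromSpec.continuous)
    have hiff : ∀ q : Spec Γ(X, U), U.2.fromSpec q ∈ F ↔ I ≤ q.asIdeal := fun q => Set.ext_iff.mp hI q
    have hpt : ∀ q : Spec Γ(X, U), (h (U.2.fromSpec q)).asIdeal = q.asIdeal.comap (algebraMap A Γ(X, U)) := fun q => by
      rw [← Scheme.Hom.comp_apply, hj]; rfl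
    obtain ⟨a, ha, haI⟩ := exists_forall_le_of_generic (A := A) I fun Q hQ hQ0 =>
      (hiff ⟨Q, hQ⟩).mp (hgen _ (by rw [hpt]; exact hQ0))
    refine ⟨a, ha, fun x hx hxa => ?_⟩
    obtain ⟨q, rfl⟩ : x ∈ Set.range U.2.fromSpec := by rw [U.2.range_fromSpec]; exact hx
    exact (hiff q).mpr (haI _ q.isPrime fun hm => hxa (by rw [hpt]; exact hm))
  choose aU haU0 haU using hpiece
  refine ⟨∏ U ∈ s, aU U, Finset.prod_ne_zero_iff.mpr fun U _ => haU0 U, fun x hx => ?_⟩
  obtain ⟨U, hU, hxU⟩ := Set.mem_iUnion₂.mp (hs (Set.mem_univ x))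
  exact haU U x hxU fun hm => hx (Ideal.mem_of_dvd _ (Finset.dvd_prod_of_mem aU hU) hm)

/-- A closed subset containing the generic fibre of a morphism of finite type to an irreducible scheme contains
the preimage of a nonempty open. -/
theorem exists_preimage_subset_of_generic {X Y : Scheme.{u}} (f : X ⟶ Y) [IrreducibleSpace Y]
    [LocallyOfFiniteType f] [QuasiCompact f] (F : Set X) (hF : IsClosed F)
    (hgen : ∀ x, f x = genericPoint Y → x ∈ F) :
    ∃ V : Y.Opens, genericPoint Y ∈ V ∧ ∀ x, f x ∈ V → x ∈ F := by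
  obtain ⟨A, hA, i, hi, hV⟩ := exists_integral_base Y
  obtain ⟨a, ha, haF⟩ := exists_forall_mem_of_generic (pullback.snd f i) (pullback.fst f i ⁻¹' F)
    (hF.preimage (pullback.fst f i).continuous) fun z hz => by
      refine hgen _ ?_
      rw [← Scheme.Hom.comp_apply, pullback.condition, Scheme.Hom.comp_apply]
      exact hi _ hz
  obtain ⟨V, hξ, hVK⟩ := hV a ha
  refine ⟨V, hξ, fun x hx => ?_⟩
  let c : Spec (Y.residueField (f x)) := (⟨⊥, Ideal.isPrime_bot⟩ : PrimeSpectrum (Y.residueField (f x)))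
  obtain ⟨φ, hφ, hφa⟩ := hVK (Y.residueField (f x)) (Y.fromSpecResidueField (f x)) fun c => by
    exact (Scheme.fromSpecResidueField_apply (f x) c).symm ▸ hx
  have hp : i (Spec.map φ c) = f x := by
    rw [← Scheme.Hom.comp_apply, hφ]; exact Scheme.fromSpecResidueField_apply ..
  obtain ⟨z, hz₁, hz₂⟩ := Scheme.Pullback.exists_preimage_pullback (f := f) (g := i) x (Spec.map φ c) hp.symm
  rw [← hz₁]
  exact haF z fun hm => by
    rw [hz₂] at hm
    exact hφa hm

end Groth.L07.Spread
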