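import Groth.Agent.L07.Spread.Core
import Mathlib.RingTheory.TensorProduct.Quotient

/-!
Geometric irreducibility spreads from the generic point of an integral affine base, algebras of finite type
(EGA IV 9.7.7).
-/

universe u

open TensorProduct

namespace Groth.L07.Spread

set_option autoImplicit false
set_option linter.style.haveILetI false
set_option maxSynthPendingDepth 3

/-- A surjection with kernel in the nilradical does not change whether the nilradical is prime. -/
theorem isPrime_nilradical_iff_of_surjective {T T₁ : Type*} [CommRing T] [CommRing T₁] (π : T →+* T₁)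
    (hπ : Function.Surjective π) (hker : ∀ t, π t = 0 → IsNilpotent t) :
    (nilradical T₁).IsPrime ↔ (nilradical T).IsPrime := by
  have e : nilradical T = (nilradical T₁).comap π := by
    ext t
    rw [Ideal.mem_comap, mem_nilradical, mem_nilradical]
    refine ⟨fun h => h.map π, fun ⟨N, hN⟩ => ?_⟩
    obtain ⟨M, hM⟩ := hker (t ^ N) (by rw [map_pow, hN])
    exact ⟨N * M, by rw [pow_mul, hM]⟩
  rw [e]
  refine ⟨fun h => h.comap π, fun h => ?_⟩
  have := Ideal.map_isPrime_of_surjective (I := (nilradical T₁).comap π) hπ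
    (fun t ht => Ideal.mem_comap.mpr (by rw [RingHom.mem_ker.mp ht]; exact Ideal.zero_mem _))
  rwa [Ideal.map_comap_of_surjective π hπ] at this

/-- For an algebra of finite type over a domain with geometrically irreducible generic fibre the geometric
fibres over some nonempty open of the base are irreducible. -/
theorem exists_forall_isPrime_nilradical {A B : Type u} [CommRing A] [IsDomain A] [CommRing B]
    [Algebra A B] [Algebra.FiniteType A B]
    (Ω : Type u) [Field Ω] [IsAlgClosed Ω] [Algebra A Ω] [Algebra.IsAlgebraic A Ω]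
    (hΩ : Function.Injective (algebraMap A Ω)) (hT : (nilradical (Ω ⊗[A] B)).IsPrime) :
    ∃ a : A, a ≠ 0 ∧ ∀ (κ : Type u) [Field κ] [IsAlgClosed κ] [Algebra A κ],
      algebraMap A κ a ≠ 0 → (nilradical (κ ⊗[A] B)).IsPrime := by
  haveI := hT
  let ιB : B →ₐ[A] Ω ⊗[A] B := Algebra.TensorProduct.includeRight
  let p : Ideal B := (nilradical (Ω ⊗[A] B)).comap ιB
  haveI : p.IsPrime := hT.comap _
  let π : B →ₐ[A] B ⧸ p := Ideal.Quotient.mkₐ A p
  have hπ : Function.Surjective π := Ideal.Quotient.mk_surjective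
  have hπp : ∀ b, π b = 0 ↔ b ∈ p := fun b => Ideal.Quotient.eq_zero_iff_mem
  have hsurj : ∀ (C : Type u) [CommRing C] [Algebra A C],
      Function.Surjective (Algebra.TensorProduct.map (AlgHom.id A C) π) := fun C _ _ t => by
    induction t using TensorProduct.induction_on with
    | zero => exact ⟨0, map_zero _⟩
    | add x y hx hy =>
      obtain ⟨x, rfl⟩ := hx
      obtain ⟨y, rfl⟩ := hy
      exact ⟨x + y, map_add _ _ _⟩
    | tmul o b =>
      obtain ⟨b, rfl⟩ := hπ b
      exact ⟨o ⊗ₜ b, rfl⟩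
  have hker : ∀ (C : Type u) [CommRing C] [Algebra A C], (∀ b ∈ p, IsNilpotent ((1 : C) ⊗ₜ[A] b)) →
      ∀ t, Algebra.TensorProduct.map (AlgHom.id A C) π t = 0 → IsNilpotent t := fun C _ _ h t ht => by
    have ht' : t ∈ RingHom.ker (Algebra.TensorProduct.map (AlgHom.id A C) π) := ht
    rw [Algebra.TensorProduct.lTensor_ker _ hπ] at ht'
    refine mem_nilradical.mp ((Ideal.map_le_iff_le_comap.mpr fun b hb => ?_) ht')
    exact mem_nilradical.mpr (h b ((hπp b).mp hb))
  have hT₁ : (nilradical (Ω ⊗[A] (B ⧸ p))).IsPrime :=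
    (isPrime_nilradical_iff_of_surjective _ (hsurj Ω) (hker Ω fun b hb => mem_nilradical.mp hb)).mpr hT
  have hinj : Function.Injective (algebraMap A (B ⧸ p)) := by
    refine (injective_iff_map_eq_zero _).mpr fun a ha => ?_
    have h : ιB (algebraMap A B a) ∈ nilradical (Ω ⊗[A] B) := (hπp _).mp ha
    rw [AlgHom.commutes, IsScalarTower.algebraMap_apply A Ω (Ω ⊗[A] B), mem_nilradical] at h
    haveI : Nontrivial (Ω ⊗[A] B) := ⟨⟨0, 1, fun h01 => hT.ne_top ((Ideal.eq_top_iff_one _).mpr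
      (by rw [← h01]; exact Ideal.zero_mem _))⟩⟩
    obtain ⟨N, hN⟩ := h
    rw [← map_pow, map_eq_zero_iff _ (algebraMap Ω (Ω ⊗[A] B)).injective] at hN
    exact hΩ ((eq_zero_of_pow_eq_zero hN).trans (map_zero _).symm)
  obtain ⟨a₁, ha₁, hspread⟩ := exists_forall_isPrime_nilradical_of_isDomain hinj Ω hΩ hT₁
  obtain ⟨m, φ, hφ⟩ := Algebra.FiniteType.iff_quotient_mvPolynomial''.mp (inferInstance : Algebra.FiniteType A B)
  obtain ⟨c, hc, G, hG, hGtor⟩ := exists_relations (π.comp φ) (hπ.comp hφ)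
  choose aG haG0 N haG using fun q : G => show ∃ a : A, a ≠ 0 ∧ ∃ N : ℕ, a • φ q.1 ^ N = 0 by
    obtain ⟨N, hN⟩ := mem_nilradical.mp (show ιB (φ q.1) ∈ nilradical _ from (hπp _).mp (hG q.1 q.2))
    rw [← map_pow] at hN
    obtain ⟨a, ha, ha'⟩ := torsion_of_tmul_eq_zero A Ω hΩ _ hN
    exact ⟨a, ha, N, ha'⟩
  refine ⟨a₁ * c * ∏ q : G, aG q, mul_ne_zero (mul_ne_zero ha₁ hc) (Finset.prod_ne_zero_iff.mpr fun q _ => haG0 q),
    fun κ _ _ _ hκ => ?_⟩
  simp only [map_mul, map_prod, ne_eq, mul_eq_zero, not_or, Finset.prod_eq_zero_iff, not_exists, not_and,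
    Finset.mem_univ, forall_const] at hκ
  refine (isPrime_nilradical_iff_of_surjective _ (hsurj κ) (hker κ fun b hb => ?_)).mp (hspread κ hκ.1.1)
  obtain ⟨r, rfl⟩ := hφ b
  obtain ⟨l, hl⟩ := hGtor r (show π (φ r) = 0 from (hπp _).mpr hb)
  let e : MvPolynomial (Fin m) A →ₐ[A] κ ⊗[A] B := Algebra.TensorProduct.includeRight.comp φ
  have hspan : Ideal.span (G : Set (MvPolynomial (Fin m) A)) ≤ (nilradical (κ ⊗[A] B)).comap e := by
    refine Ideal.span_le.mpr fun q hq => mem_nilradical.mpr ⟨N ⟨q, hq⟩, ?_⟩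
    have h0 : algebraMap A (κ ⊗[A] B) (aG ⟨q, hq⟩) * e q ^ N ⟨q, hq⟩ = 0 := by
      rw [← map_pow, ← Algebra.smul_def, ← map_smul]
      show (1 : κ) ⊗ₜ[A] φ (aG ⟨q, hq⟩ • q ^ N ⟨q, hq⟩) = 0
      rw [map_smul, map_pow, haG ⟨q, hq⟩, TensorProduct.tmul_zero]
    rw [IsScalarTower.algebraMap_apply A κ (κ ⊗[A] B)] at h0
    exact ((Ne.isUnit (hκ.2 ⟨q, hq⟩)).map (algebraMap κ (κ ⊗[A] B))).mul_right_eq_zero.mp h0
  have h := hspan hl
  rw [Ideal.mem_comap, map_mul, map_pow, AlgHom.commutes, IsScalarTower.algebraMap_apply A κ (κ ⊗[A] B)] at h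
  exact mem_nilradical.mp ((Ideal.unit_mul_mem_iff_mem _ (((Ne.isUnit hκ.1.2).map _).pow l)).mp h)

end Groth.L07.Spread
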