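import Mathlib.FieldTheory.SeparablyGenerated
import Mathlib.FieldTheory.PrimitiveElement
import Mathlib.RingTheory.Localization.FractionRing
import Mathlib.RingTheory.Polynomial.UniqueFactorization
import Mathlib.RingTheory.MvPolynomial.Localization
import Mathlib.RingTheory.EssentialFiniteness

/-!
Hypersurface models of integral algebras of finite type over perfect fields.
-/

universe u

open scoped Polynomial

namespace Groth.L07.Spread

set_option autoImplicit false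
set_option linter.style.haveILetI false

/-- The kernel of a hom of an integral domain polynomial ring into a domain, injective on constants, is
generated by an irreducible polynomial when it is nonzero. -/
theorem exists_irreducible_span_of_injective {R L : Type u} [CommRing R] [IsDomain R]
    [UniqueFactorizationMonoid R] [CommRing L] [IsDomain L] (φ : R[X] →+* L)
    (hC : Function.Injective (φ.comp Polynomial.C)) (hne : RingHom.ker φ ≠ ⊥) :
    ∃ P : R[X], Irreducible P ∧ RingHom.ker φ = Ideal.span {P} := by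
  classical
  let F := FractionRing R
  letI : Algebra R[X] F[X] := Polynomial.algebra R F
  let M : Submonoid R[X] := (nonZeroDivisors R).map Polynomial.C
  haveI : IsLocalization M F[X] := Polynomial.isLocalization (nonZeroDivisors R) F
  let 𝔭 := RingHom.ker φ
  haveI : 𝔭.IsPrime := RingHom.ker_isPrime φ
  obtain ⟨P, hP𝔭, hP⟩ := Ideal.IsPrime.exists_mem_prime_of_ne_bot ‹𝔭.IsPrime› hne
  haveI : (Ideal.span {P}).IsPrime := (Ideal.span_singleton_prime hP.ne_zero).mpr hP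
  have hdisj : Disjoint (M : Set R[X]) 𝔭 := by
    rw [Set.disjoint_left]
    rintro _ ⟨r, hr, rfl⟩ (h : φ (Polynomial.C r) = 0)
    exact nonZeroDivisors.ne_zero hr (hC (h.trans (map_zero _).symm))
  have hle : Ideal.span {P} ≤ 𝔭 := (Ideal.span_singleton_le_iff_mem _).mpr hP𝔭
  have hdisj' : Disjoint (M : Set R[X]) (Ideal.span {P} : Ideal R[X]) :=
    Set.disjoint_of_subset_right hle hdisj
  have h1 : ((Ideal.span {P}).map (algebraMap R[X] F[X])).IsPrime :=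
    IsLocalization.isPrime_of_isPrime_disjoint M F[X] _ inferInstance hdisj'
  have h2 : (𝔭.map (algebraMap R[X] F[X])).IsPrime :=
    IsLocalization.isPrime_of_isPrime_disjoint M F[X] _ inferInstance hdisj
  have hne' : (Ideal.span {P}).map (algebraMap R[X] F[X]) ≠ ⊥ := by
    rw [Ideal.map_span, Set.image_singleton, ne_eq, Ideal.span_singleton_eq_bot]
    exact (map_ne_zero_iff _ (Polynomial.map_injective _ (IsFractionRing.injective R F))).mpr hP.ne_zero
  have heq := (IsPrime.to_maximal_ideal hne' : ((Ideal.span {P}).map (algebraMap R[X] F[X])).IsMaximal).eq_of_le h2.ne_top (Ideal.map_mono hle)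
  refine ⟨P, hP.irreducible, ?_⟩
  have e1 := IsLocalization.under_map_of_isPrime_disjoint M F[X] (I := 𝔭) inferInstance hdisj
  have e2 := IsLocalization.under_map_of_isPrime_disjoint M F[X] (I := Ideal.span {P}) inferInstance hdisj'
  exact e1.symm.trans ((congrArg (Ideal.comap (algebraMap R[X] F[X])) heq.symm).trans e2)

/-- A finitely generated extension of a perfect field is generated by finitely many elements with one
irreducible relation. -/
theorem exists_hypersurface_generators (Ω L : Type u) [Field Ω] [PerfectField Ω] [Field L] [Algebra Ω L]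
    [Algebra.EssFiniteType Ω L] :
    ∃ (n : ℕ) (v : Fin n → L) (P : MvPolynomial (Fin n) Ω), Irreducible P ∧
      RingHom.ker (MvPolynomial.aeval v : MvPolynomial (Fin n) Ω →ₐ[Ω] L) = Ideal.span {P} ∧
      IntermediateField.adjoin Ω (Set.range v) = ⊤ := by
  classical
  obtain ⟨s, hs, hsep⟩ := exists_isTranscendenceBasis_and_isSeparable_of_perfectField Ω L
  let F := IntermediateField.adjoin Ω (s : Set L)
  haveI : Algebra.EssFiniteType F L := Algebra.EssFiniteType.of_comp Ω F L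
  haveI : FiniteDimensional F L := Algebra.finite_of_essFiniteType_of_isAlgebraic
  obtain ⟨θ, hθ⟩ := Field.exists_primitive_element F L
  let m := s.card
  let e : Fin m ≃ s := s.equivFin.symm
  let v₀ : Fin m → L := fun i => (e i : L)
  let v : Fin (m + 1) → L := Fin.cons θ v₀
  have hv₀ : AlgebraicIndependent Ω v₀ := hs.1.comp e e.injective
  let R := MvPolynomial (Fin m) Ω
  let ev : R →ₐ[Ω] L := MvPolynomial.aeval v₀
  let ε := MvPolynomial.finSuccEquiv Ω m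
  let φ : R[X] →+* L := Polynomial.eval₂RingHom ev.toRingHom θ
  have hφv : ∀ p, φ (ε p) = MvPolynomial.aeval v p := by
    intro p
    have : (φ.comp ε.toAlgHom.toRingHom) = (MvPolynomial.aeval v : MvPolynomial (Fin (m + 1)) Ω →ₐ[Ω] L).toRingHom := by
      refine MvPolynomial.ringHom_ext (fun r => ?_) fun i => ?_
      · simp [φ, ε, ev, MvPolynomial.finSuccEquiv_apply]
        exact MvPolynomial.aeval_C _ _
      · refine Fin.cases ?_ (fun j => ?_) i
        · simp [φ, ε, ev, v, MvPolynomial.finSuccEquiv_apply]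
        · simp [φ, ε, ev, v, MvPolynomial.finSuccEquiv_apply]
          exact MvPolynomial.aeval_X _ _
    exact RingHom.congr_fun this p
  have hC : Function.Injective (φ.comp Polynomial.C) := by
    intro a b hab
    refine hv₀ ?_
    simpa [φ, ev] using hab
  have hne : RingHom.ker φ ≠ ⊥ := by
    intro hbot
    have hv : AlgebraicIndependent Ω v := fun p q hpq =>
      ε.injective ((RingHom.injective_iff_ker_eq_bot φ).mpr hbot (by rw [hφv, hφv]; exact hpq))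
    have hsub : Set.range ((↑) : s → L) ⊆ Set.range v := by
      rintro _ ⟨y, rfl⟩
      exact ⟨Fin.succ (e.symm y), by simp [v, v₀]⟩
    obtain ⟨y, hy⟩ : θ ∈ Set.range ((↑) : s → L) := by
      rw [hs.2 _ (AlgebraicIndependent.to_subtype_range hv) hsub]
      exact ⟨0, by simp [v]⟩
    exact Fin.succ_ne_zero (e.symm y) (hv.injective (by simp [v, v₀, hy]))
  obtain ⟨P₁, hP₁, hker⟩ := exists_irreducible_span_of_injective φ hC hne
  refine ⟨m + 1, v, ε.symm P₁, (MulEquiv.irreducible_iff ε.symm.toRingEquiv.toMulEquiv).mpr hP₁, ?_, ?_⟩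
  · ext p
    rw [RingHom.mem_ker, ← hφv, ← RingHom.mem_ker, hker, Ideal.mem_span_singleton, Ideal.mem_span_singleton,
      ← map_dvd_iff ε (a := ε.symm P₁), AlgEquiv.apply_symm_apply]
  · have h1 := (IntermediateField.adjoin_adjoin_left Ω (s : Set L) {θ}).symm
    rw [hθ, IntermediateField.restrictScalars_top] at h1
    refine top_le_iff.mp (h1.ge.trans (IntermediateField.adjoin.mono _ _ _ ?_))
    rintro x (hx | rfl)
    · exact ⟨Fin.succ (e.symm ⟨x, hx⟩), by simp [v, v₀]⟩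
    · exact ⟨0, by simp [v]⟩

open scoped Classical in
/-- Two finitely generated subalgebras with the same fields of fractions agree after localising at one
element of each, the first one being divisible by any prescribed one. -/
theorem exists_common_localization {Ω L : Type u} [Field Ω] [Field L] [Algebra Ω L]
    (A₁ A₂ : Subalgebra Ω L) (h₁ : A₁.FG) (h₂ : A₂.FG) (hfr₁ : ∀ x : L, ∃ a ∈ A₁, ∃ b ∈ A₁, b ≠ 0 ∧ x * b = a)
    (hfr₂ : ∀ x : L, ∃ a ∈ A₂, ∃ b ∈ A₂, b ≠ 0 ∧ x * b = a) :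
    ∃ t ∈ A₁, t ≠ 0 ∧ ∀ h ∈ A₁, h ≠ 0 → (∃ c ∈ A₁, h = t * c) → ∃ g ∈ A₂, g ≠ 0 ∧
      Algebra.adjoin Ω ((A₁ : Set L) ∪ {h⁻¹}) = Algebra.adjoin Ω ((A₂ : Set L) ∪ {g⁻¹}) := by
  have hden : ∀ (B₁ B₂ : Subalgebra Ω L), B₂.FG → (∀ x : L, ∃ a ∈ B₁, ∃ b ∈ B₁, b ≠ 0 ∧ x * b = a) →
      ∃ d ∈ B₁, d ≠ 0 ∧ ∀ S : Subalgebra Ω L, B₁ ≤ S → d⁻¹ ∈ S → B₂ ≤ S := by
    intro B₁ B₂ hB₂ hfr
    obtain ⟨T, rfl⟩ := hB₂
    choose a ha b hb hb0 hab using hfr
    refine ⟨∏ x ∈ T, b x, prod_mem fun x _ => hb x, Finset.prod_ne_zero_iff.mpr fun x _ => hb0 x,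
      fun S hS hdS => Algebra.adjoin_le fun x hx => ?_⟩
    have e : x = a x * (∏ y ∈ T.erase x, b y) * (∏ y ∈ T, b y)⁻¹ := by
      rw [← Finset.mul_prod_erase T b hx]
      have hpr : (∏ y ∈ T.erase x, b y) ≠ 0 := Finset.prod_ne_zero_iff.mpr fun y _ => hb0 y
      have := hb0 x
      field_simp
      linear_combination hab x
    rw [e]
    exact S.mul_mem (S.mul_mem (hS (ha x)) (hS (prod_mem fun y _ => hb y))) hdS
  have hinv : ∀ (S : Subalgebra Ω L) (a c : L), c ∈ S → (a * c)⁻¹ ∈ S → c ≠ 0 → a⁻¹ ∈ S := fun S a c hc hac hc0 => by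
    have : a⁻¹ = c * (a * c)⁻¹ := by rw [mul_inv, mul_comm a⁻¹, ← mul_assoc, mul_inv_cancel₀ hc0, one_mul]
    rw [this]; exact S.mul_mem hc hac
  obtain ⟨d₁, hd₁, hd₁0, H₁⟩ := hden A₁ A₂ h₂ hfr₁
  obtain ⟨d₂, hd₂, hd₂0, H₂⟩ := hden A₂ A₁ h₁ hfr₂
  obtain ⟨a, ha, b, hb, hb0, hab⟩ := hfr₁ d₂
  have ha0 : a ≠ 0 := hab ▸ mul_ne_zero hd₂0 hb0
  refine ⟨d₁ * a, A₁.mul_mem hd₁ ha, mul_ne_zero hd₁0 ha0, fun h hh hh0 ⟨c, hc, hhc⟩ => ?_⟩
  obtain ⟨k, hk⟩ : ∃ k : ℕ, h * d₂ ^ k ∈ A₂ := by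
    let S' : Subalgebra Ω L :=
      { carrier := {x | ∃ k : ℕ, x * d₂ ^ k ∈ A₂}
        mul_mem' := fun {x y} ⟨k, hk⟩ ⟨l, hl⟩ => ⟨k + l, by
          rw [show x * y * d₂ ^ (k + l) = (x * d₂ ^ k) * (y * d₂ ^ l) by ring]; exact A₂.mul_mem hk hl⟩
        add_mem' := fun {x y} ⟨k, hk⟩ ⟨l, hl⟩ => ⟨k + l, by
          rw [show (x + y) * d₂ ^ (k + l) = (x * d₂ ^ k) * d₂ ^ l + (y * d₂ ^ l) * d₂ ^ k by ring]
          exact A₂.add_mem (A₂.mul_mem hk (A₂.pow_mem hd₂ l)) (A₂.mul_mem hl (A₂.pow_mem hd₂ k))⟩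
        algebraMap_mem' := fun r => ⟨0, by simp⟩ }
    exact H₂ S' (fun x hx => ⟨0, by simpa using hx⟩) ⟨1, by simp [hd₂0]⟩ hh
  have hp : h * d₂ ^ k ∈ A₂ := hk
  set p := h * d₂ ^ k with hpdef
  have hp0 : p ≠ 0 := mul_ne_zero hh0 (pow_ne_zero _ hd₂0)
  refine ⟨d₂ * p, A₂.mul_mem hd₂ hp, mul_ne_zero hd₂0 hp0, ?_⟩
  set S₁ := Algebra.adjoin Ω ((A₁ : Set L) ∪ {h⁻¹}) with hS₁
  set S₂ := Algebra.adjoin Ω ((A₂ : Set L) ∪ {(d₂ * p)⁻¹}) with hS₂
  have hA₁ : A₁ ≤ S₁ := fun x hx => Algebra.subset_adjoin (Or.inl hx)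
  have hhS : h⁻¹ ∈ S₁ := Algebra.subset_adjoin (Or.inr rfl)
  have hA₂ : A₂ ≤ S₂ := fun x hx => Algebra.subset_adjoin (Or.inl hx)
  have hgS : (d₂ * p)⁻¹ ∈ S₂ := Algebra.subset_adjoin (Or.inr rfl)
  have hc0 : c ≠ 0 := fun e => hh0 (by rw [hhc, e, mul_zero])
  have hd₁S : d₁⁻¹ ∈ S₁ := by
    refine hinv S₁ d₁ (a * c) (hA₁ (A₁.mul_mem ha hc)) ?_ (mul_ne_zero ha0 hc0)
    rw [← mul_assoc, ← hhc]; exact hhS
  have haS : a⁻¹ ∈ S₁ := by
    refine hinv S₁ a (d₁ * c) (hA₁ (A₁.mul_mem hd₁ hc)) ?_ (mul_ne_zero hd₁0 hc0)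
    rw [show a * (d₁ * c) = h from by rw [hhc]; ring]; exact hhS
  have hA₂S : A₂ ≤ S₁ := H₁ S₁ hA₁ hd₁S
  have hd₂S : d₂⁻¹ ∈ S₂ := hinv S₂ d₂ p (hA₂ hp) hgS hp0
  have hA₁S : A₁ ≤ S₂ := H₂ S₂ hA₂ hd₂S
  refine le_antisymm (Algebra.adjoin_le ?_) (Algebra.adjoin_le ?_)
  · rintro x (hx | rfl)
    · exact hA₁S hx
    · have e : h⁻¹ = d₂ ^ k * d₂ * (d₂ * p)⁻¹ := by
        rw [hpdef]; field_simp
      rw [e]
      exact S₂.mul_mem (S₂.mul_mem (S₂.pow_mem (hA₂ hd₂) k) (hA₂ hd₂)) hgS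
  · rintro x (hx | rfl)
    · exact hA₂S hx
    · have e1 : d₂⁻¹ = b * a⁻¹ := by rw [← hab]; field_simp
      have hd₂S₁ : d₂⁻¹ ∈ S₁ := e1 ▸ S₁.mul_mem (hA₁ hb) haS
      have e2 : (d₂ * p)⁻¹ = d₂⁻¹ * h⁻¹ * d₂⁻¹ ^ k := by
        rw [hpdef, mul_inv, mul_inv, inv_pow]; ring
      rw [e2]
      exact S₁.mul_mem (S₁.mul_mem hd₂S₁ hhS) (S₁.pow_mem hd₂S₁ k)

end Groth.L07.Spread
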