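import Groth.Agent.L07.Spread.Hyper
import Groth.Agent.L07.Spread.Poly
import Mathlib.RingTheory.Nilpotent.Lemmas
import Mathlib.RingTheory.Ideal.Quotient.Nilpotent
import Mathlib.RingTheory.Localization.Away.Basic
import Mathlib.RingTheory.EssentialFiniteness
import Mathlib.RingTheory.FiniteType

/-!
A principal open of a hypersurface as a model, up to nilpotents, of a principal open of an irreducible
affine scheme over a perfect field.
-/

universe u

namespace Groth.L07.Spread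

set_option autoImplicit false
set_option linter.style.haveILetI false
set_option maxSynthPendingDepth 3

open scoped Classical in
theorem exists_model (Ω T : Type u) [Field Ω] [PerfectField Ω] [CommRing T] [Algebra Ω T] {m : ℕ}
    (x : Fin m → T) (hx : Function.Surjective (MvPolynomial.aeval x : MvPolynomial (Fin m) Ω →ₐ[Ω] T))
    (hT : (nilradical T).IsPrime) (S : Set T)
    (hS : ∀ t : T, ¬ IsNilpotent t → ∃ s ∈ S, ¬ IsNilpotent s ∧ ∃ c, IsNilpotent (s - t * c)) :
    ∃ s ∈ S, ¬ IsNilpotent s ∧ ∃ (n : ℕ) (P g : MvPolynomial (Fin n) Ω)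
      (N : Fin m → MvPolynomial (Option (Fin n)) Ω) (NW : MvPolynomial (Option (Fin n)) Ω)
      (b : Option (Fin n) → Localization.Away s),
      Irreducible P ∧
      (∀ q : MvPolynomial (Fin m) Ω, MvPolynomial.aeval x q = 0 → MvPolynomial.aeval N q ∈ openRel P g) ∧
      (∀ q : MvPolynomial (Fin m) Ω, MvPolynomial.aeval x q = s →
        MvPolynomial.aeval N q * NW - 1 ∈ openRel P g) ∧
      IsNilpotent (MvPolynomial.aeval b (MvPolynomial.rename some P)) ∧
      IsNilpotent (MvPolynomial.aeval b (MvPolynomial.rename some g * MvPolynomial.X none - 1)) ∧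
      ∀ i, IsNilpotent (MvPolynomial.aeval b (N i) - algebraMap T (Localization.Away s) (x i)) := by
  haveI := hT
  let D := T ⧸ nilradical T
  let L := FractionRing D
  haveI : Algebra.FiniteType Ω T := Algebra.FiniteType.of_surjective (MvPolynomial.aeval x) hx
  haveI : Algebra.FiniteType Ω D := Algebra.FiniteType.of_surjective (Ideal.Quotient.mkₐ Ω (nilradical T)) Ideal.Quotient.mk_surjective
  haveI : Algebra.EssFiniteType D L := Algebra.EssFiniteType.of_isLocalization L (nonZeroDivisors D)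
  haveI : Algebra.EssFiniteType Ω L := Algebra.EssFiniteType.comp Ω D L
  let π : T →ₐ[Ω] L := (IsScalarTower.toAlgHom Ω D L).comp (Ideal.Quotient.mkₐ Ω (nilradical T))
  have hπ : ∀ t, π t = 0 ↔ IsNilpotent t := fun t => by
    show algebraMap D L (Ideal.Quotient.mk _ t) = 0 ↔ _
    rw [map_eq_zero_iff _ (IsFractionRing.injective D L), Ideal.Quotient.eq_zero_iff_mem, mem_nilradical]
  obtain ⟨n, v, P, hP, hker, htop⟩ := exists_hypersurface_generators Ω L
  let A₁ : Subalgebra Ω L := π.range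
  let A₂ : Subalgebra Ω L := Algebra.adjoin Ω (Set.range v)
  have h₁ : A₁.FG := by
    rw [show A₁ = (⊤ : Subalgebra Ω T).map π from (Algebra.map_top π).symm]
    exact Subalgebra.FG.map π (Algebra.FiniteType.out)
  have hfr₁ : ∀ y : L, ∃ a ∈ A₁, ∃ b ∈ A₁, b ≠ 0 ∧ y * b = a := fun y => by
    obtain ⟨a, ⟨b, hb⟩, rfl⟩ := IsLocalization.exists_mk'_eq (nonZeroDivisors D) y
    obtain ⟨a, rfl⟩ := Ideal.Quotient.mk_surjective a
    obtain ⟨b, rfl⟩ := Ideal.Quotient.mk_surjective b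
    exact ⟨π a, ⟨a, rfl⟩, π b, ⟨b, rfl⟩,
      (map_ne_zero_iff _ (IsFractionRing.injective D L)).mpr (nonZeroDivisors.ne_zero hb),
      IsLocalization.mk'_spec L _ (⟨_, hb⟩ : nonZeroDivisors D)⟩
  have hfr₂ : ∀ y : L, ∃ a ∈ A₂, ∃ b ∈ A₂, b ≠ 0 ∧ y * b = a := fun y => by
    obtain ⟨a, ha, b, hb, rfl⟩ := IntermediateField.mem_adjoin_iff_div.mp
      (htop.ge (show y ∈ (⊤ : IntermediateField Ω L) from IntermediateField.mem_top))
    rcases eq_or_ne b 0 with rfl | hb0
    · exact ⟨0, A₂.zero_mem, 1, A₂.one_mem, one_ne_zero, by simp⟩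
    · exact ⟨a, ha, b, hb, hb0, div_mul_cancel₀ a hb0⟩
  obtain ⟨_, ⟨t, rfl⟩, ht0, hcommon⟩ := exists_common_localization A₁ A₂ h₁ ⟨(Set.range v).toFinset, by simp [A₂]⟩ hfr₁ hfr₂
  obtain ⟨s, hsS, hs, c, hc⟩ := hS t fun h => ht0 ((hπ t).mpr h)
  have hs0 : π s ≠ 0 := fun h => hs ((hπ s).mp h)
  obtain ⟨gL, hgA, hg0, heq⟩ := hcommon (π s) ⟨s, rfl⟩ hs0 ⟨π c, ⟨c, rfl⟩, sub_eq_zero.mp (by
    show π s - π t * π c = 0
    rw [← map_mul, ← map_sub]; exact (hπ _).mpr hc)⟩
  have hrv : A₂ = (MvPolynomial.aeval v : MvPolynomial (Fin n) Ω →ₐ[Ω] L).range := Algebra.adjoin_range_eq_range_aeval Ω v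
  obtain ⟨g, hg⟩ : gL ∈ (MvPolynomial.aeval v : MvPolynomial (Fin n) Ω →ₐ[Ω] L).range := hrv ▸ hgA
  have hg' : MvPolynomial.aeval v g ≠ 0 := by
    show (MvPolynomial.aeval v : MvPolynomial (Fin n) Ω →ₐ[Ω] L).toRingHom g ≠ 0
    rw [hg]; exact hg0
  have hJ := ker_aeval_openPt v P g hker hg'
  let e := (MvPolynomial.aeval (openPt v g) : MvPolynomial (Option (Fin n)) Ω →ₐ[Ω] L)
  have hY : ∀ y ∈ Algebra.adjoin Ω ((A₁ : Set L) ∪ {(π s)⁻¹}), ∃ q, e q = y := fun y hy => by
    rw [heq] at hy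
    refine (?_ : Algebra.adjoin Ω ((A₂ : Set L) ∪ {gL⁻¹}) ≤ e.range) hy
    refine Algebra.adjoin_le ?_
    rintro z (hz | rfl)
    · refine (?_ : A₂ ≤ e.range) hz
      refine Algebra.adjoin_le ?_
      rintro _ ⟨k, rfl⟩
      exact ⟨MvPolynomial.X (some k), MvPolynomial.aeval_X _ _⟩
    · refine ⟨MvPolynomial.X none, (MvPolynomial.aeval_X _ _).trans ?_⟩
      show (MvPolynomial.aeval v g)⁻¹ = gL⁻¹
      exact congrArg _ hg
  choose N hN using fun i => hY (π (x i)) (Algebra.subset_adjoin (Or.inl ⟨x i, rfl⟩))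
  obtain ⟨NW, hNW⟩ := hY (π s)⁻¹ (Algebra.subset_adjoin (Or.inr rfl))
  have hNq : ∀ q : MvPolynomial (Fin m) Ω, e (MvPolynomial.aeval N q) = π (MvPolynomial.aeval x q) := fun q => by
    rw [← AlgHom.comp_apply, ← AlgHom.comp_apply, MvPolynomial.comp_aeval, MvPolynomial.comp_aeval]
    exact congrArg (fun v => MvPolynomial.aeval v q) (funext hN)
  -- the localised algebra
  let Ts := Localization.Away s
  have hu : ∀ y : Submonoid.powers s, IsUnit (π.toRingHom y) := by
    rintro ⟨_, k, rfl⟩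
    show IsUnit (π (s ^ k))
    rw [map_pow]; exact (Ne.isUnit hs0).pow k
  let μ : Ts →ₐ[Ω] L := IsLocalization.liftAlgHom (M := Submonoid.powers s) (f := π) hu
  have hμ : ∀ y, μ (algebraMap T Ts y) = π y := fun y => IsLocalization.lift_eq hu y
  have hμnil : ∀ z, μ z = 0 → IsNilpotent z := fun z hz => by
    obtain ⟨a, ⟨_, k, rfl⟩, rfl⟩ := IsLocalization.exists_mk'_eq (Submonoid.powers s) z
    have h1 : μ (algebraMap T Ts a) = 0 := by
      rw [← IsLocalization.mk'_spec Ts a (⟨_, k, rfl⟩ : Submonoid.powers s), map_mul, hz, zero_mul]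
    obtain ⟨N', hN'⟩ := (hπ a).mp ((hμ a).symm.trans h1)
    refine ⟨N', ?_⟩
    rw [← IsLocalization.mk'_pow, hN', IsLocalization.mk'_zero]
  have hrange : Algebra.adjoin Ω ((A₂ : Set L) ∪ {gL⁻¹}) ≤ μ.range := by
    rw [← heq]
    refine Algebra.adjoin_le ?_
    rintro z (⟨y, rfl⟩ | rfl)
    · exact ⟨algebraMap T Ts y, hμ y⟩
    · refine ⟨IsLocalization.Away.invSelf s, ?_⟩
      refine eq_inv_of_mul_eq_one_left ?_
      show μ (IsLocalization.Away.invSelf s) * π s = 1
      rw [← hμ, ← map_mul, mul_comm, IsLocalization.Away.mul_invSelf, map_one]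
  have hpt : ∀ o, openPt v g o ∈ μ.range := fun o => by
    cases o with
    | none =>
      refine hrange (Algebra.subset_adjoin (Or.inr ?_))
      show (MvPolynomial.aeval v g)⁻¹ = gL⁻¹
      exact congrArg _ hg
    | some k => exact hrange (Algebra.subset_adjoin (Or.inl (Algebra.subset_adjoin ⟨k, rfl⟩)))
  choose b hb using hpt
  have hμb : ∀ q, μ (MvPolynomial.aeval b q) = e q := fun q => by
    rw [← AlgHom.comp_apply, MvPolynomial.comp_aeval]
    exact congrArg (fun v => MvPolynomial.aeval v q) (funext hb)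
  have hmemJ : ∀ q, e q = 0 ↔ q ∈ openRel P g := fun q => by rw [← hJ]; exact RingHom.mem_ker.symm
  refine ⟨s, hsS, hs, n, P, g, N, NW, b, hP, fun q hq => ?_, fun q hq => ?_, hμnil _ ?_, hμnil _ ?_,
    fun i => hμnil _ ?_⟩
  · rw [← hmemJ, hNq, hq, map_zero]
  · rw [← hmemJ, map_sub, map_mul, hNq, hq, hNW, map_one, mul_inv_cancel₀ hs0, sub_self]
  · rw [hμb, hmemJ]; exact Ideal.subset_span (Or.inl rfl)
  · rw [hμb, hmemJ]; exact Ideal.subset_span (Or.inr rfl)
  · rw [map_sub, hμb, hN, hμ, sub_self]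

end Groth.L07.Spread
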